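import Cfsg.Agent.EvenLocal.Involved
import Cfsg.Agent.Modules.Fixed
import Cfsg.Agent.Coprime.Generation
import Cfsg.Agent.PGroup.Frattini

/-!
`S₄` is involved in `G` exactly when `S₃` is involved in some `N(T)/C(T)` for a `2`-subgroup `T`.
-/

set_option autoImplicit false
set_option linter.style.haveILetI false

namespace Cfsg.Agent.EvenLocal

open Subgroup
open scoped commutatorElement

universe u

variable {G : Type u} [Group G] [Finite G]

/-- The four group `{1, v, v', v v'}`. -/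
def fourGroup {G : Type u} [Group G] {A : Subgroup G} (hA : IsElementaryAbelian 2 A) {v v' : G}
    (hv : v ∈ A) (hv' : v' ∈ A) : Subgroup G where
  carrier := {w | w = 1 ∨ w = v ∨ w = v' ∨ w = v * v'}
  one_mem' := Or.inl rfl
  inv_mem' {w} hw := by
    have h : w⁻¹ = w := by
      have hw2 : w ^ 2 = 1 := hA.2 w (by
        rcases hw with rfl | rfl | rfl | rfl
        exacts [one_mem A, hv, hv', A.mul_mem hv hv'])
      exact inv_eq_of_mul_eq_one_right (by rw [← sq]; exact hw2)
    rwa [h]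
  mul_mem' {a b} ha hb := by
    have hc : v' * v = v * v' := Modules.elemAb_comm hA hv' hv
    have h1 : v * v = 1 := by rw [← sq]; exact hA.2 v hv
    have h2 : v' * v' = 1 := by rw [← sq]; exact hA.2 v' hv'
    have h3 : v' * (v * v') = v := by rw [← mul_assoc, hc, mul_assoc, h2, mul_one]
    have h4 : v * v' * v = v' := by rw [mul_assoc, hc, ← mul_assoc, h1, one_mul]
    have h5 : v * v' * (v * v') = 1 := by rw [← mul_assoc, h4, h2]
    rcases ha with h | h | h | h <;> rcases hb with h' | h' | h' | h' <;>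
      simp [h, h', hc, h1, h2, h3, h4, h5, mul_assoc v v' v', ← mul_assoc v v v']

/-- The core of the construction of an `S₄` section. -/
theorem involves_perm_four {A : Subgroup G} (hA : IsElementaryAbelian 2 A) {x y : G}
    (hxA : x ∈ normalizer (A : Set G)) (hyA : y ∈ normalizer (A : Set G))
    (hx : ∃ k : ℕ, orderOf x = 2 ^ k) (hy : ∃ k : ℕ, orderOf y = 3 ^ k)
    (hxy : x * y * x⁻¹ = y⁻¹) (hy3 : y ^ 3 ∈ centralizer (A : Set G))
    (hyc : y ∉ centralizer (A : Set G)) : Cfsg.Involves (Equiv.Perm (Fin 4)) G := by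
  obtain ⟨i, hi⟩ := hx
  have hcomm : ∀ a ∈ A, ∀ b ∈ A, a * b = b * a := fun a ha b hb => Modules.elemAb_comm hA ha hb
  have hsq : ∀ a ∈ A, a * a = 1 := fun a ha => by rw [← sq]; exact hA.2 a ha
  let c : G → G → G := fun g a => g * a * g⁻¹
  have hcA : ∀ a ∈ A, c y a ∈ A := fun a ha => (mem_normalizer_iff.1 hyA a).1 ha
  have hy3a : ∀ a ∈ A, c y (c y (c y a)) = a := by
    intro a ha
    calc y * (y * (y * a * y⁻¹) * y⁻¹) * y⁻¹ = y ^ 3 * a * (y ^ 3)⁻¹ := by
          simp only [pow_succ', pow_zero, mul_one, mul_inv_rev, mul_assoc]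
      _ = a := by rw [← mem_centralizer_iff.1 hy3 a ha, mul_inv_cancel_right]
  let nm : G → G := fun a => a * c y a * c y (c y a)
  obtain ⟨a₀, ha₀, hne₀⟩ : ∃ a ∈ A, c y a ≠ a := by
    by_contra h
    push Not at h
    exact hyc (mem_centralizer_iff.2 fun a ha => (mul_inv_eq_iff_eq_mul.1 (h a ha)).symm)
  let B : Subgroup G :=
    { carrier := {a | a ∈ A ∧ nm a = 1}
      one_mem' := ⟨one_mem A, by simp [nm, c]⟩
      mul_mem' := fun {a b} ha hb => by
        refine ⟨A.mul_mem ha.1 hb.1, ?_⟩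
        have e1 : ∀ g a b : G, c g (a * b) = c g a * c g b := fun g a b => by
          show g * (a * b) * g⁻¹ = g * a * g⁻¹ * (g * b * g⁻¹)
          group
        calc nm (a * b) = (a * b) * (c y a * c y b) * (c y (c y a) * c y (c y b)) := by
              simp only [nm, e1]
          _ = a * (b * c y a) * c y b * c y (c y a) * c y (c y b) := by simp only [mul_assoc]
          _ = a * (c y a * b) * c y b * c y (c y a) * c y (c y b) := by
              rw [hcomm b hb.1 (c y a) (hcA a ha.1)]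
          _ = a * c y a * ((b * c y b) * c y (c y a)) * c y (c y b) := by simp only [mul_assoc]
          _ = a * c y a * (c y (c y a) * (b * c y b)) * c y (c y b) := by
              rw [hcomm (b * c y b) (A.mul_mem hb.1 (hcA b hb.1)) _ (hcA _ (hcA a ha.1))]
          _ = nm a * nm b := by simp only [nm, mul_assoc]
          _ = 1 := by rw [ha.2, hb.2, mul_one]
      inv_mem' := fun {a} ha => by
        rw [inv_eq_of_mul_eq_one_right (hsq a ha.1)]
        exact ha }
  set d := a₀ * c y a₀ with hd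
  have hdA : d ∈ A := A.mul_mem ha₀ (hcA _ ha₀)
  have hdB : d ∈ B := by
    refine ⟨hdA, ?_⟩
    have e1 : ∀ a b : G, c y (a * b) = c y a * c y b := fun a b => by
      show y * (a * b) * y⁻¹ = y * a * y⁻¹ * (y * b * y⁻¹)
      group
    show a₀ * c y a₀ * c y (a₀ * c y a₀) * c y (c y (a₀ * c y a₀)) = 1
    simp only [e1, hy3a a₀ ha₀]
    calc a₀ * c y a₀ * (c y a₀ * c y (c y a₀)) * (c y (c y a₀) * a₀)
        = a₀ * (c y a₀ * c y a₀) * (c y (c y a₀) * c y (c y a₀)) * a₀ := by simp only [mul_assoc]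
      _ = 1 := by rw [hsq _ (hcA _ ha₀), hsq _ (hcA _ (hcA _ ha₀)), mul_one, mul_one, hsq _ ha₀]
  have hd1 : d ≠ 1 := fun h => hne₀ (by
    rw [hd] at h
    rw [← inv_eq_of_mul_eq_one_right h, inv_eq_of_mul_eq_one_right (hsq _ ha₀)])
  have hxB : zpowers x ≤ normalizer (B : Set G) := by
    rw [zpowers_le, mem_normalizer_iff_map_conj_eq]
    refine eq_of_le_of_card_ge ?_ (card_map_of_injective (MulEquiv.injective _)).ge
    rintro - ⟨a, ⟨ha, hn⟩, rfl⟩
    refine ⟨(mem_normalizer_iff.1 hxA a).1 ha, ?_⟩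
    show x * a * x⁻¹ * c y (x * a * x⁻¹) * c y (c y (x * a * x⁻¹)) = 1
    have e : ∀ b, c y (x * b * x⁻¹) = x * (y⁻¹ * b * y) * x⁻¹ := by
      intro b
      have hyx : y * x = x * y⁻¹ := by
        calc y * x = (x * y * x⁻¹)⁻¹ * x := by rw [hxy, inv_inv]
          _ = x * y⁻¹ := by group
      calc y * (x * b * x⁻¹) * y⁻¹ = (y * x) * b * (y * x)⁻¹ := by group
        _ = x * (y⁻¹ * b * y) * x⁻¹ := by rw [hyx]; group
    have hinv : ∀ b ∈ A, y⁻¹ * b * y = c y (c y b) := by
      intro b hb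
      conv_lhs => rw [← hy3a b hb]
      show y⁻¹ * (y * (c y (c y b)) * y⁻¹) * y = _
      group
    rw [e, e, hinv a ha, hinv _ (hcA _ (hcA a ha)), hy3a _ (hcA a ha)]
    calc x * a * x⁻¹ * (x * c y (c y a) * x⁻¹) * (x * c y a * x⁻¹)
        = x * (a * (c y (c y a) * c y a)) * x⁻¹ := by group
      _ = x * nm a * x⁻¹ := by
          rw [hcomm _ (hcA _ (hcA a ha)) _ (hcA a ha), ← mul_assoc a]
      _ = 1 := by rw [hn, mul_one, mul_inv_cancel]
  have hBp : IsPGroup 2 B := (Modules.elemAb_isPGroup hA).to_le fun a ha => ha.1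
  have hBne : B ≠ ⊥ := fun h => hd1 (by rw [h, mem_bot] at hdB; exact hdB)
  have hfix := Modules.inf_centralizer_ne_bot_of_isPGroup hBp hBne hxB fun a ha => ⟨i, by
    obtain ⟨n, rfl⟩ := mem_zpowers_iff.1 ha
    have : (x ^ n) ^ (2 ^ i : ℕ) = 1 := by
      rw [← zpow_natCast, ← zpow_mul, mul_comm, zpow_mul, zpow_natCast, ← hi, pow_orderOf_eq_one,
        one_zpow]
    rw [this]
    exact one_mem _⟩
  obtain ⟨v, ⟨⟨hvA, hvn⟩, hvx⟩, hv1⟩ :=
    (Subgroup.bot_or_exists_ne_one _).resolve_left hfix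
  have hxv : x * v * x⁻¹ = v :=
    mul_inv_eq_iff_eq_mul.2 (mem_centralizer_iff.1 hvx x (mem_zpowers x))
  set v' := c y v with hv'
  have hv'A : v' ∈ A := hcA v hvA
  have hv'' : c y v' = v * v' := by
    have := inv_eq_of_mul_eq_one_right (hvn : v * v' * c y v' = 1)
    rw [inv_eq_of_mul_eq_one_right (hsq _ (A.mul_mem hvA hv'A))] at this
    exact this.symm
  have hne' : v' ≠ v := by
    intro h
    rw [h] at hv''
    have : c y v = v := h
    rw [this, hsq v hvA] at hv''
    exact hv1 hv''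
  set W := fourGroup hA hvA hv'A with hW
  have hWA : W ≤ A := by
    rintro w (rfl | rfl | rfl | rfl)
    exacts [one_mem A, hvA, hv'A, A.mul_mem hvA hv'A]
  have hv'1 : v' ≠ 1 := fun h => hv1 (conj_eq_one_iff.1 h)
  have hvv' : v * v' ≠ 1 := fun h =>
    hne' (by rw [← inv_eq_of_mul_eq_one_right h, inv_eq_of_mul_eq_one_right (hsq v hvA)])
  have hcard : Nat.card W = 4 := by
    have e : (W : Set G) = {1, v, v', v * v'} := rfl
    rw [← SetLike.coe_sort_coe, Nat.card_coe_set_eq, e,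
      Set.ncard_eq_four]
    exact ⟨1, v, v', v * v', fun h => hv1 h.symm, fun h => hv'1 h.symm, fun h => hvv' h.symm,
      fun h => hne' h.symm, fun h => hv'1 (mul_left_cancel (a := v) (by rw [mul_one]; exact h.symm)),
      fun h => hv1 (mul_right_cancel (b := v') (by rw [one_mul]; exact h.symm)), rfl⟩
  have hyv'' : c y (v * v') = v := by
    show y * (v * v') * y⁻¹ = v
    rw [← hv'']; exact hy3a v hvA
  have hxv' : x * v' * x⁻¹ = v * v' := by
    calc x * (y * v * y⁻¹) * x⁻¹ = (x * y * x⁻¹) * (x * v * x⁻¹) * (x * y * x⁻¹)⁻¹ := by group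
      _ = y⁻¹ * v * y := by rw [hxy, hxv, inv_inv]
      _ = y⁻¹ * (c y (c y (c y v))) * y := by rw [hy3a v hvA]
      _ = c y v' := by simp [c, hv', mul_assoc]
      _ = v * v' := hv''
  have hxvv' : x * (v * v') * x⁻¹ = v' := by
    calc x * (v * v') * x⁻¹ = (x * v * x⁻¹) * (x * v' * x⁻¹) := by group
      _ = v' := by rw [hxv, hxv', ← mul_assoc, hsq v hvA, one_mul]
  set L := closure ({x, y} : Set G) with hL
  have hLW : L ≤ normalizer (W : Set G) := by
    rw [hL, closure_le]
    rintro g (rfl | rfl) <;> rw [SetLike.mem_coe, mem_normalizer_iff_map_conj_eq] <;>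
      refine eq_of_le_of_card_ge ?_ (card_map_of_injective (MulEquiv.injective _)).ge <;>
      rintro - ⟨w, rfl | rfl | rfl | rfl, rfl⟩
    · exact Or.inl (by simp)
    · exact Or.inr (Or.inl hxv)
    · exact Or.inr (Or.inr (Or.inr hxv'))
    · exact Or.inr (Or.inr (Or.inl hxvv'))
    · exact Or.inl (by simp)
    · exact Or.inr (Or.inr (Or.inl rfl))
    · exact Or.inr (Or.inr (Or.inr hv''))
    · exact Or.inr (Or.inl hyv'')
  have hWfix : ∀ w ∈ W, c y w = w → w = 1 := by
    rintro w (rfl | rfl | rfl | rfl) h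
    · rfl
    · exact absurd h hne'
    · rw [hv''] at h
      exact absurd (mul_eq_right.1 h) hv1
    · rw [hyv''] at h
      exact absurd (left_eq_mul.1 h) hv'1
  have hLy : L ≤ normalizer (zpowers y : Set G) := by
    rw [hL, closure_le]
    rintro g (rfl | rfl)
    · rw [SetLike.mem_coe, mem_normalizer_iff_map_conj_eq, MonoidHom.map_zpowers,
        ← zpowers_inv (g := y)]
      congr 1
    · exact le_normalizer (mem_zpowers _)
  have hWL : ∀ w ∈ W, w ∈ L → w = 1 := by
    intro w hw hwL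
    refine hWfix w hw ?_
    have hm : c y w * w⁻¹ ∈ W :=
      W.mul_mem ((mem_normalizer_iff.1 (hLW (subset_closure (Or.inr rfl))) w).1 hw) (W.inv_mem hw)
    have hm2 : c y w * w⁻¹ ∈ zpowers y := by
      have : c y w * w⁻¹ = y * (w * y⁻¹ * w⁻¹) := by
        show y * w * y⁻¹ * w⁻¹ = _
        group
      rw [this]
      exact (zpowers y).mul_mem (mem_zpowers y)
        ((mem_normalizer_iff.1 (hLy hwL) _).1 (inv_mem (mem_zpowers y)))
    obtain ⟨k, hk⟩ := hy
    have h3 : orderOf (c y w * w⁻¹) ∣ 3 ^ k := hk ▸ Nat.card_zpowers y ▸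
      Subgroup.orderOf_dvd_natCard _ hm2
    have h2 : orderOf (c y w * w⁻¹) ∣ 2 := orderOf_dvd_of_pow_eq_one (hA.2 _ (hWA hm))
    have h1 := Nat.eq_one_of_dvd_coprimes (Nat.Coprime.pow_left k (by norm_num)) h3 h2
    exact mul_inv_eq_one.1 (orderOf_eq_one_iff.1 h1)
  set K := L ⊔ W with hK
  set Lk := L.subgroupOf K with hLk
  have hindex : Nat.card (K ⧸ Lk) = 4 := by
    have h1 := Modules.card_sup_mul_card_inf hLW
    rw [show L ⊓ W = ⊥ from (eq_bot_iff_forall _).2 fun w hw => hWL w hw.2 hw.1, card_bot,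
      mul_one] at h1
    have h2 := card_eq_card_quotient_mul_card_subgroup Lk
    rw [h1, hcard, Nat.card_congr (subgroupOfEquivOfLe (le_sup_left : L ≤ K)).toEquiv,
      mul_comm] at h2
    exact Nat.eq_of_mul_eq_mul_right Nat.card_pos h2.symm
  set φ := MulAction.toPermHom K (K ⧸ Lk) with hφ
  let pt : K ⧸ Lk := ((1 : K) : K ⧸ Lk)
  let e : W → K ⧸ Lk := fun w => ((⟨w.1, mem_sup_right w.2⟩ : K) : K ⧸ Lk)
  have he : Function.Bijective e := by
    refine (Nat.bijective_iff_injective_and_card e).2 ⟨fun a b hab => ?_, by rw [hcard, hindex]⟩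
    have h : ((a : G))⁻¹ * b ∈ L :=
      (QuotientGroup.eq.1 hab : (⟨a.1, mem_sup_right a.2⟩ : K)⁻¹ * ⟨b.1, mem_sup_right b.2⟩ ∈ Lk)
    exact Subtype.ext (inv_mul_eq_one.1 (hWL _ (W.mul_mem (W.inv_mem a.2) b.2) h))
  have hφe : ∀ (l : K), l ∈ Lk → ∀ (w w' : W), (l : G) * w * (l : G)⁻¹ = w' →
      φ l (e w) = e w' := by
    intro l hl w w' h
    refine QuotientGroup.eq.2 ?_
    show ((l : G) * w)⁻¹ * w' ∈ L
    rw [← h]
    have : ((l : G) * w)⁻¹ * (l * w * (l : G)⁻¹) = (l : G)⁻¹ := by group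
    rw [this]
    exact L.inv_mem hl
  have hxk : x ∈ K := mem_sup_left (subset_closure (Or.inl rfl))
  have hyk : y ∈ K := mem_sup_left (subset_closure (Or.inr rfl))
  have hxl : (⟨x, hxk⟩ : K) ∈ Lk := subset_closure (Or.inl rfl)
  have hyl : (⟨y, hyk⟩ : K) ∈ Lk := subset_closure (Or.inr rfl)
  let wv : W := ⟨v, Or.inr (Or.inl rfl)⟩
  let wv' : W := ⟨v', Or.inr (Or.inr (Or.inl rfl))⟩
  let wvv' : W := ⟨v * v', Or.inr (Or.inr (Or.inr rfl))⟩
  have hy1 : φ ⟨y, hyk⟩ ≠ 1 := fun h => hne' (by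
    have := hφe _ hyl wv wv' rfl
    rw [h, Equiv.Perm.one_apply] at this
    exact (congrArg Subtype.val (he.1 this)).symm)
  have hy3' : φ ⟨y, hyk⟩ ^ 3 = 1 := by
    rw [← map_pow]
    refine Equiv.ext fun q => ?_
    obtain ⟨w, rfl⟩ := he.2 q
    rw [Equiv.Perm.one_apply]
    refine hφe _ (Lk.pow_mem hyl 3) w w ?_
    show y ^ 3 * (w : G) * (y ^ 3)⁻¹ = w
    rw [← mem_centralizer_iff.1 hy3 _ (hWA w.2), mul_inv_cancel_right]
  have hx1 : φ ⟨x, hxk⟩ ≠ 1 := fun h => hv1 (by
    have := hφe _ hxl wv' wvv' hxv'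
    rw [h, Equiv.Perm.one_apply] at this
    have h' : v' = v * v' := congrArg Subtype.val (he.1 this)
    exact mul_right_cancel (b := v') (by rw [one_mul]; exact h'.symm))
  have hd6 : 6 ∣ Nat.card (Lk.map φ) := by
    refine Nat.Coprime.mul_dvd_of_dvd_of_dvd (by norm_num : Nat.Coprime 2 3) ?_ ?_
    · have hd := Subgroup.orderOf_dvd_natCard (Lk.map φ) (mem_map_of_mem φ hxl)
      obtain ⟨j, -, hj⟩ := (Nat.dvd_prime_pow Nat.prime_two).1
        ((orderOf_map_dvd φ (⟨x, hxk⟩ : K)).trans (by rw [Subgroup.orderOf_mk, hi]))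
      rcases j with _ | j
      · exact absurd (orderOf_eq_one_iff.1 hj) hx1
      · exact (hj ▸ dvd_pow_self 2 j.succ_ne_zero).trans hd
    · have hd := Subgroup.orderOf_dvd_natCard (Lk.map φ) (mem_map_of_mem φ hyl)
      rwa [orderOf_eq_prime (hp := ⟨Nat.prime_three⟩) hy3' hy1] at hd
  have hsur : Function.Surjective φ := by
    rw [← MonoidHom.range_eq_top]
    haveI : Finite (Equiv.Perm (K ⧸ Lk)) := inferInstance
    refine eq_top_of_le_card _ ?_
    rw [Nat.card_perm, hindex]
    have hinj : Function.Injective (fun ws : W × Lk.map φ =>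
        (⟨φ ⟨ws.1.1, mem_sup_right ws.1.2⟩ * ws.2.1,
          φ.range.mul_mem ⟨_, rfl⟩ (map_le_range φ Lk ws.2.2)⟩ : φ.range)) := by
      rintro ⟨a, s⟩ ⟨b, t⟩ h
      simp only [Subtype.mk.injEq] at h
      have hpt : ∀ s : Lk.map φ, s.1 pt = pt := by
        rintro ⟨_, l, hl, rfl⟩
        exact QuotientGroup.eq.2 (by
          show ((l : G) * 1)⁻¹ * 1 ∈ L
          simpa [hLk, mem_subgroupOf] using hl)
      have h' := Equiv.ext_iff.1 h pt
      rw [Equiv.Perm.mul_apply, Equiv.Perm.mul_apply, hpt, hpt] at h'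
      have hpe : ∀ w : W, φ ⟨w.1, mem_sup_right w.2⟩ pt = e w := fun w => by
        show ((⟨w.1, _⟩ * 1 : K) : K ⧸ Lk) = _
        rw [mul_one]
      rw [hpe, hpe] at h'
      obtain rfl := he.1 h'
      exact Prod.ext rfl (Subtype.ext (mul_left_cancel h))
    have hle := Nat.card_le_card_of_injective _ hinj
    rw [Nat.card_prod, hcard] at hle
    refine le_trans ?_ hle
    have h6 := Nat.le_of_dvd Nat.card_pos hd6
    rw [show Nat.factorial 4 = 4 * 6 from rfl]
    exact Nat.mul_le_mul_left 4 h6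
  haveI : Fintype (K ⧸ Lk) := Fintype.ofFinite _
  exact involves_congr (Equiv.permCongrHom (Fintype.equivFinOfCardEq
    (by rw [← Nat.card_eq_fintype_card, hindex]))) (involves_of_surjective φ hsur)

/-- The Klein four subgroup of `S₄`. -/
def klein : Subgroup (Equiv.Perm (Fin 4)) where
  carrier := {σ | σ * σ = 1 ∧ Equiv.Perm.sign σ = 1}
  one_mem' := ⟨mul_one 1, map_one _⟩
  inv_mem' {σ} h := by rw [inv_eq_of_mul_eq_one_right h.1]; exact h
  mul_mem' {σ τ} hσ hτ := by
    have key : ∀ σ τ : Equiv.Perm (Fin 4), σ * σ = 1 → Equiv.Perm.sign σ = 1 → τ * τ = 1 →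
        Equiv.Perm.sign τ = 1 → σ * τ * (σ * τ) = 1 := by decide +kernel
    exact ⟨key σ τ hσ.1 hσ.2 hτ.1 hτ.2, by rw [map_mul, hσ.2, hτ.2, mul_one]⟩

instance klein_normal_inst : klein.Normal :=
  ⟨fun σ h τ => ⟨by rw [show τ * σ * τ⁻¹ * (τ * σ * τ⁻¹) = τ * (σ * σ) * τ⁻¹ by group, h.1,
    mul_one, mul_inv_cancel], by rw [map_mul, map_mul, h.2, map_inv, mul_one, mul_inv_cancel]⟩⟩

/-- An explicit isomorphism of the dihedral group of order six with `S₃`. -/
def dihedralThreeHom : DihedralGroup 3 →* Equiv.Perm (Fin 3) where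
  toFun g := match g with
    | DihedralGroup.r i => finRotate 3 ^ i.val
    | DihedralGroup.sr i => Equiv.swap 0 1 * finRotate 3 ^ i.val
  map_one' := by decide +kernel
  map_mul' := by decide +kernel

theorem dihedralThreeHom_bijective : Function.Bijective dihedralThreeHom := by
  rw [Fintype.bijective_iff_injective_and_card]
  exact ⟨by decide +kernel, by decide +kernel⟩

theorem involves_perm_four_iff :
    Cfsg.Involves (Equiv.Perm (Fin 4)) G ↔ ∃ T : Subgroup G, IsPGroup 2 ↥T ∧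
      Cfsg.Involves (Equiv.Perm (Fin 3)) (↥(normalizer (T : Set G)) ⧸
        (centralizer (T : Set G)).subgroupOf (normalizer (T : Set G))) := by
  constructor
  · intro h
    obtain ⟨K, f, hf⟩ := exists_surjective_of_involves h
    have hV : IsPGroup 2 klein := fun σ => ⟨1, Subtype.ext (by
      rw [SubmonoidClass.coe_pow, pow_one, sq]; exact σ.2.1)⟩
    obtain ⟨Q₀, hQ₀, hQ₀V⟩ := Known.exists_isPGroup_map_eq f hf hV
    obtain ⟨Q, hQ, hQQ⟩ := FusionAlperin.exists_sylIn_ge
      (map_le_iff_le_comap.1 hQ₀V.le : Q₀ ≤ klein.comap f) hQ₀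
    have hQV : Q.map f = klein :=
      le_antisymm (map_le_iff_le_comap.2 hQ.le) (hQ₀V ▸ map_mono hQQ)
    refine ⟨Q.map K.subtype, hQ.isPGroup.map _, ?_⟩
    set N := normalizer (Q : Set K) with hN
    have hfN : ∀ σ, ∃ n ∈ N, f n = σ := by
      intro σ
      obtain ⟨k, rfl⟩ := hf σ
      obtain ⟨l, hl, hlQ⟩ := hQ.frattini (a := k) fun m hm => by
        show f (k * m * k⁻¹) ∈ klein
        rw [map_mul, map_mul, map_inv]
        exact klein_normal_inst.conj_mem _ hm _
      obtain ⟨q, hq, hqf⟩ : f l ∈ Q.map f := hQV ▸ hl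
      refine ⟨q⁻¹ * (l * k), N.mul_mem (N.inv_mem (le_normalizer hq)) ?_, ?_⟩
      · rw [hN, mem_normalizer_iff_map_conj_eq]
        refine eq_of_le_of_card_ge ?_ (card_map_of_injective (MulEquiv.injective _)).ge
        rintro - ⟨r, hr, rfl⟩
        exact hlQ r hr
      · rw [map_mul, map_mul, map_inv, hqf, inv_mul_cancel_left]
    let ι : Equiv.Perm (Fin 3) →* Equiv.Perm (Fin 4) :=
      Equiv.Perm.viaEmbeddingHom Fin.castSuccEmb
    have hι : Function.Injective ι := Equiv.Perm.viaEmbeddingHom_injective _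
    have hιK : ∀ s : Equiv.Perm (Fin 3), (∀ t ∈ klein, t * ι s = ι s * t) → s = 1 := by
      intro s hs
      have key : ∀ σ : Equiv.Perm (Fin 4),
          (∀ t : Equiv.Perm (Fin 4), t * t = 1 → Equiv.Perm.sign t = 1 → t * σ = σ * t) →
          σ 3 = 3 → σ = 1 := by decide +kernel
      refine hι ((key (ι s) (fun t h1 h2 => hs t ⟨h1, h2⟩) ?_).trans (map_one ι).symm)
      exact Equiv.Perm.viaEmbedding_apply_of_notMem s Fin.castSuccEmb 3 (by decide)
    set A₀ : Subgroup K := N ⊓ ι.range.comap f with hA₀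
    set A : Subgroup G := A₀.map K.subtype with hA
    have hAN : A ≤ normalizer ((Q.map K.subtype : Subgroup G) : Set G) :=
      (map_mono inf_le_left).trans (le_normalizer_map _)
    let eA := A₀.equivMapOfInjective K.subtype K.subtype_injective
    let g : A →* Equiv.Perm (Fin 3) :=
      (MonoidHom.ofInjective hι).symm.toMonoidHom.comp
        (((f.comp A₀.subtype).codRestrict ι.range fun a => a.2.2).comp eA.symm.toMonoidHom)
    have hg : Function.Surjective g := by
      intro s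
      obtain ⟨n, hn, hns⟩ := hfN (ι s)
      refine ⟨eA ⟨n, hn, ⟨s, hns.symm⟩⟩, ?_⟩
      apply (MonoidHom.ofInjective hι).injective
      simp only [g, MonoidHom.coe_comp, MulEquiv.coe_toMonoidHom, Function.comp_apply,
        MulEquiv.apply_symm_apply, MulEquiv.symm_apply_apply]
      exact Subtype.ext hns
    let π : A →* ↥(normalizer ((Q.map K.subtype : Subgroup G) : Set G)) ⧸
        (centralizer ((Q.map K.subtype : Subgroup G) : Set G)).subgroupOf
          (normalizer ((Q.map K.subtype : Subgroup G) : Set G)) :=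
      (QuotientGroup.mk' _).comp (inclusion hAN)
    have hker : π.ker ≤ g.ker := by
      intro a ha
      have ha' : (a : G) ∈ centralizer ((Q.map K.subtype : Subgroup G) : Set G) :=
        mem_subgroupOf.1 ((QuotientGroup.eq_one_iff (inclusion hAN a)).1 (MonoidHom.mem_ker.1 ha))
      obtain ⟨a₀, rfl⟩ := eA.surjective a
      rw [MonoidHom.mem_ker]
      refine hιK _ fun t ht => ?_
      obtain ⟨q, hq, rfl⟩ : t ∈ Q.map f := hQV ▸ ht
      have hga : ι (g (eA a₀)) = f a₀ := by
        have := congrArg Subtype.val ((MonoidHom.ofInjective hι).apply_symm_apply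
          (((f.comp A₀.subtype).codRestrict ι.range fun a => a.2.2) (eA.symm (eA a₀))))
        simp only [MulEquiv.symm_apply_apply] at this
        simp only [g, MonoidHom.coe_comp, MulEquiv.coe_toMonoidHom, Function.comp_apply,
          MulEquiv.symm_apply_apply]
        exact this
      rw [hga, ← map_mul, ← map_mul]
      refine congrArg f (Subtype.ext ?_)
      exact mem_centralizer_iff.1 ha' _ ⟨q, hq, rfl⟩
    refine involves_of_surjective
      ((QuotientGroup.lift π.ker g hker).comp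
        (QuotientGroup.quotientKerEquivRange π).symm.toMonoidHom) ?_
    intro s
    obtain ⟨a, rfl⟩ := hg s
    refine ⟨QuotientGroup.quotientKerEquivRange π (QuotientGroup.mk a), ?_⟩
    show QuotientGroup.lift π.ker g hker ((QuotientGroup.quotientKerEquivRange π).symm
      (QuotientGroup.quotientKerEquivRange π (QuotientGroup.mk a))) = g a
    rw [MulEquiv.symm_apply_apply]
    rfl
  · rintro ⟨T, hT, h⟩
    haveI : Fact (Nat.Prime 3) := ⟨Nat.prime_three⟩
    set N := normalizer (T : Set G) with hN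
    obtain ⟨x₁, y₁, -, hy₁, hy₁1, hxy₁⟩ := exists_inverted_of_involves (p := 3) (by norm_num)
      (involves_congr (MulEquiv.ofBijective _ dihedralThreeHom_bijective).symm h)
    obtain ⟨x, y, ⟨i, hi⟩, ⟨j, hj⟩, hxy, hy⟩ := exists_inverted_of_map (by norm_num)
      (QuotientGroup.mk' ((centralizer (T : Set G)).subgroupOf N))
      (QuotientGroup.mk'_surjective _) hy₁ hy₁1 hxy₁
    have hyc : (y : G) ∉ centralizer (T : Set G) := fun h => hy ((QuotientGroup.eq_one_iff _).2 h)
    classical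
    have hex : ∃ n, (y : G) ^ 3 ^ n ∈ centralizer (T : Set G) :=
      ⟨j, by rw [← hj, ← Subgroup.orderOf_coe, pow_orderOf_eq_one]; exact one_mem _⟩
    obtain ⟨m, hm⟩ : ∃ m, Nat.find hex = m + 1 := by
      rcases hn : Nat.find hex with _ | m
      · exact absurd (by simpa [hn] using Nat.find_spec hex) hyc
      · exact ⟨m, rfl⟩
    set z := (y : G) ^ 3 ^ m with hz
    have hzc : z ∉ centralizer (T : Set G) := Nat.find_min hex (by omega)
    have hz3 : z ^ 3 ∈ centralizer (T : Set G) := by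
      rw [hz, ← pow_mul, ← pow_succ, ← hm]; exact Nat.find_spec hex
    have hzN : z ∈ N := N.pow_mem y.2 _
    have hxz : (x : G) * z * (x : G)⁻¹ = z⁻¹ := by
      rw [hz, ← conj_pow, show (x : G) * y * (x : G)⁻¹ = (y : G)⁻¹ from congrArg Subtype.val hxy,
        inv_pow]
    have hzo : ∃ k, orderOf z = 3 ^ k := by
      obtain ⟨k, -, hk⟩ := (Nat.dvd_prime_pow Nat.prime_three).1
        (show orderOf z ∣ 3 ^ j by rw [← hj, ← Subgroup.orderOf_coe, hz]; exact orderOf_pow_dvd _)
      exact ⟨k, hk⟩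
    haveI : Finite T := inferInstance
    obtain ⟨t₀, ht₀, hne⟩ : ∃ t ∈ T, t⁻¹ * z * t * z⁻¹ ∉ (frattini T).map T.subtype := by
      by_contra hcon
      push Not at hcon
      refine hzc ?_
      refine Coprime.le_centralizer_of_frattini (A := zpowers z) (zpowers_le.2 hzN) ?_ ?_
        (mem_zpowers z)
      · obtain ⟨k, hk⟩ := hzo
        obtain ⟨n, hn⟩ := IsPGroup.iff_card.1 (hT.to_subgroup (frattini T))
        rw [Nat.card_zpowers, hk, hn]
        exact Nat.Coprime.pow k n (by norm_num)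
      · intro a ha t ht
        obtain ⟨n, rfl⟩ := mem_powers_iff_mem_zpowers.2 ha
        have hNΦ := Coprime.normalizer_le_normalizer_map_characteristic T (frattini T) hzN
        induction n with
        | zero => simp
        | succ n ih =>
          have ih' := ih (mem_zpowers_iff.2 ⟨n, zpow_natCast _ _⟩)
          have e : t⁻¹ * z ^ (n + 1) * t * (z ^ (n + 1))⁻¹ =
              (t⁻¹ * z * t * z⁻¹) * (z * (t⁻¹ * z ^ n * t * (z ^ n)⁻¹) * z⁻¹) := by
            simp only [pow_succ', mul_inv_rev, mul_assoc, inv_mul_cancel_left,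
              mul_inv_cancel_left]
          show t⁻¹ * z ^ (n + 1) * t * (z ^ (n + 1))⁻¹ ∈ _
          rw [e]
          exact mul_mem (hcon t ht) ((mem_normalizer_iff.1 hNΦ _).1 ih')
    set R := ((frattini T).map T.subtype).subgroupOf N with hR
    haveI : R.Normal :=
      normal_subgroupOf_of_le_normalizer (Coprime.normalizer_le_normalizer_map_characteristic T _)
    have hTN : T ≤ N := le_normalizer
    set π := QuotientGroup.mk' R with hπ
    set A := (T.subgroupOf N).map π with hA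
    have hAe : IsElementaryAbelian 2 A := by
      have hmk : ∀ (a : N) (t : T), (a : G) = t → t ∈ frattini T → π a = 1 := fun a t e h =>
        (QuotientGroup.eq_one_iff _).2 (mem_subgroupOf.2 ⟨t, h, e.symm⟩)
      refine ⟨Modules.comm_iff.2 ?_, ?_⟩
      · rintro - ⟨a, ha, rfl⟩ - ⟨b, hb, rfl⟩
        refine commutatorElement_eq_one_iff_mul_comm.1 ?_
        rw [← map_commutatorElement]
        exact hmk _ ⁅(⟨a, ha⟩ : T), ⟨b, hb⟩⁆ rfl
          (PGroup.commutatorElement_mem_frattini hT _ _)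
      · rintro - ⟨a, ha, rfl⟩
        rw [← map_pow]
        exact hmk _ ((⟨a, ha⟩ : T) ^ 2) rfl (PGroup.pow_mem_frattini hT _)
    have hnorm : ∀ n : N, π n ∈ normalizer (A : Set (N ⧸ R)) := fun n => by
      haveI : (T.subgroupOf N).Normal := normal_subgroupOf_of_le_normalizer le_rfl
      haveI : A.Normal := Normal.map inferInstance _ (QuotientGroup.mk'_surjective _)
      rw [normalizer_eq_top (H := A)]
      trivial
    refine involves_of_involves_image π (QuotientGroup.mk'_surjective R)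
      (involves_perm_four hAe (hnorm x) (hnorm ⟨z, hzN⟩) ?_ ?_ ?_ ?_ ?_)
    · obtain ⟨k, -, hk⟩ := (Nat.dvd_prime_pow Nat.prime_two).1
        ((orderOf_map_dvd π x).trans hi.dvd)
      exact ⟨k, hk⟩
    · obtain ⟨k, hk⟩ := hzo
      obtain ⟨l, -, hl⟩ := (Nat.dvd_prime_pow Nat.prime_three).1
        ((orderOf_map_dvd π (⟨z, hzN⟩ : N)).trans (by rw [Subgroup.orderOf_mk, hk]))
      exact ⟨l, hl⟩
    · rw [← map_mul, ← map_inv, ← map_inv, ← map_mul]
      exact congrArg π (Subtype.ext hxz)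
    · rw [← map_pow]
      refine mem_centralizer_iff.2 ?_
      rintro - ⟨a, ha, rfl⟩
      rw [← map_mul, ← map_mul]
      exact congrArg π (Subtype.ext (mem_centralizer_iff.1 hz3 _ ha))
    · intro hc
      have h := mem_centralizer_iff.1 hc (π ⟨t₀, hTN ht₀⟩) ⟨⟨t₀, hTN ht₀⟩, ht₀, rfl⟩
      rw [← map_mul, ← map_mul] at h
      have h' : (⟨t₀, hTN ht₀⟩ * ⟨z, hzN⟩ : N)⁻¹ * (⟨z, hzN⟩ * ⟨t₀, hTN ht₀⟩) ∈ R :=
        QuotientGroup.eq.1 h
      have h'' : z⁻¹ * t₀⁻¹ * (z * t₀) ∈ (frattini T).map T.subtype := by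
        simpa [hR, mem_subgroupOf] using h'
      have hNΦ := Coprime.normalizer_le_normalizer_map_characteristic T (frattini T) hzN
      apply hne
      have e : t₀⁻¹ * z * t₀ * z⁻¹ = z * (z⁻¹ * t₀⁻¹ * (z * t₀)) * z⁻¹ := by group
      rw [e]
      exact (mem_normalizer_iff.1 hNΦ _).1 h''

end Cfsg.Agent.EvenLocal
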