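import Cfsg.Agent.EvenLocal.ZJClosed
import Cfsg.Prelude.Def_LocalEven

/-!
From the standing notions of `p`-stability to the hypothesis of the ZJ theorem.
-/

set_option autoImplicit false
set_option linter.style.haveILetI false

namespace Cfsg.Agent.EvenLocal

open Subgroup
open scoped commutatorElement

variable {G : Type*} [Group G] {p : ℕ}

theorem commutator_zpowers_quadratic {B : Subgroup G} [B.Normal] {a : G}
    (h : ∀ β ∈ B, ⁅⁅β, a⁆, a⁆ = 1) : ⁅⁅B, zpowers a⁆, zpowers a⁆ = ⊥ := by
  refine commutator_eq_bot_iff_le_centralizer.2 (le_trans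
    (Modules.commutator_le_of_closure (S := {a}) (R := B ⊓ centralizer (zpowers a : Set G))
      (zpowers_eq_closure a).le ?_ ?_) inf_le_right)
  · rintro s (rfl : s = a)
    exact inf_normalizer_le_normalizer_inf ⟨by rw [normalizer_eq_top (H := B)]; trivial,
      Modules.normalizes_centralizer (zpowers_le.2 (le_normalizer (mem_zpowers s)))
        (mem_zpowers s)⟩
  · rintro s (rfl : s = a) v hv
    refine ⟨Modules.commutatorElement_mem (by rw [normalizer_eq_top (H := B)]; trivial) hv, ?_⟩
    refine mem_centralizer_iff.2 fun w hw => ?_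
    obtain ⟨n, rfl⟩ := mem_zpowers_iff.1 hw
    exact ((show Commute ⁅v, s⁆ s from
      commutatorElement_eq_one_iff_mul_comm.1 (h v hv)).zpow_right n).eq.symm

theorem zjStable_of_isPStableOn (hst : ∀ (B : Subgroup G) [B.Normal], IsPGroup p B →
    Cfsg.IsPStableOn p B) (P : Subgroup G) : H4.ZJStable p P := by
  intro B _ hBp a _ hq
  exact hst B hBp a (commutator_zpowers_quadratic hq)

theorem zjStable_of_isNormalizerPStable (hst : Cfsg.IsNormalizerPStable p G) (P : Subgroup G) :
    H4.ZJStable p P := by
  intro B _ hBp a _ hq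
  have hN : a ∈ normalizer (B : Set G) := by rw [normalizer_eq_top (H := B)]; trivial
  have hm := hst B hBp a hN (commutator_zpowers_quadratic hq)
  set N := normalizer (B : Set G) with hNdef
  haveI : ((centralizer (B : Set G)).subgroupOf N).Normal := inferInstance
  let f : ↥N ⧸ (centralizer (B : Set G)).subgroupOf N →* G ⧸ centralizer (B : Set G) :=
    QuotientGroup.map _ _ N.subtype le_rfl
  have hf : Function.Surjective f := by
    intro x
    obtain ⟨g, rfl⟩ := QuotientGroup.mk'_surjective _ x
    exact ⟨QuotientGroup.mk' _ ⟨g, by rw [hNdef, normalizer_eq_top (H := B)]; trivial⟩, rfl⟩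
  exact Cores.map_pCore_le_of_surjective f hf ⟨_, hm, rfl⟩

end Cfsg.Agent.EvenLocal
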