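import Cfsg.Agent.H4.ThompsonReduction
import Cfsg.Agent.EvenLocal.ZJStability
import Cfsg.Agent.Stability.Complement

/-!
The Glauberman-Thompson reduction for a strongly closed subgroup `D` of a Sylow subgroup.
-/

set_option autoImplicit false
set_option linter.style.haveILetI false

namespace Cfsg.Agent.EvenLocal

open scoped commutatorElement

universe u

variable {p : ℕ} {F : H4.PFunctor'.{u} p}

theorem npc_closed_of_reduced [Fact p.Prime] {G : Type u} [Group G] [Finite G] (P : Sylow p G)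
    (D : Subgroup G) (hD : Cfsg.IsStronglyClosed D (P : Subgroup G))
    (hyp : Cfsg.HasNormalPComplement p (Subgroup.normalizer (F.W D : Set G)))
    (key : ∀ (X : Type u) [Group X] [Finite X] (P : Sylow p X) (D K : Subgroup X),
      Cfsg.IsStronglyClosed D (P : Subgroup X) →
      Cfsg.HasNormalPComplement p (Subgroup.normalizer (F.W D : Set X)) →
      ¬ Cfsg.HasNormalPComplement p X →
      Subgroup.centralizer (Cfsg.pCore p X : Set X) ≤ Cfsg.pCore p X →
      K.Normal → K ⊔ (P : Subgroup X) = ⊤ → ⁅K, K⁆ ≤ Cfsg.pCore p X → False) :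
    Cfsg.HasNormalPComplement p G := by
  induction hn : Nat.card G using Nat.strong_induction_on generalizing G with
  | _ n ih =>
  subst hn
  have hp := (Fact.out : p.Prime)
  by_contra hbad
  have hPD : (P : Subgroup G) ≤ Subgroup.normalizer (D : Set G) :=
    Subgroup.le_normalizer_iff.2 fun g hg x hx =>
      hD.2 x hx g (mul_mem (mul_mem hg (hD.1 hx)) (inv_mem hg))
  have hnotnormal : ¬ D.Normal := by
    intro h
    haveI := F.normal_of_normal D
    have h1 := hyp
    rw [Subgroup.normalizer_eq_top (H := F.W D), H4.npc_top_iff] at h1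
    exact hbad h1
  have hDne : D ≠ ⊥ := fun h => hnotnormal (h ▸ inferInstance)
  -- proper subgroups containing `P`
  have descend : ∀ L : Subgroup G, L ≠ ⊤ → (P : Subgroup G) ≤ L →
      Cfsg.HasNormalPComplement p L := by
    intro L hL hPL
    have hlt : Nat.card L < Nat.card G := lt_of_le_of_ne (Subgroup.card_le_card_group L)
      fun h => hL (Subgroup.eq_top_of_card_eq L h)
    have hmap : (D.subgroupOf L).map L.subtype = D :=
      Subgroup.map_subgroupOf_eq_of_le (hD.1.trans hPL)
    have hsc : Cfsg.IsStronglyClosed (D.subgroupOf L) ((P.subtype hPL : Sylow p L) : Subgroup L) := by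
      rw [Sylow.coe_subtype]; exact Fusion.sc_subgroupOf hD L
    have hker : D.subgroupOf L ⊓ L.subtype.ker = ⊥ := by
      rw [Subgroup.ker_subtype, inf_bot_eq]
    refine ih _ hlt (P.subtype hPL) _ hsc ?_ rfl
    refine H4.npc_comap_subtype ?_ hyp
    refine (Subgroup.le_normalizer_map (H := F.W _) L.subtype).trans ?_
    rw [F.W_map _ _ hker, hmap]
  -- Step 1: `O_p(G) ≠ 1`
  obtain ⟨H₀, hH₀p, hH₀ne, hH₀⟩ : ∃ H : Subgroup G, IsPGroup p H ∧ H ≠ ⊥ ∧
      ¬ Cfsg.HasNormalPComplement p (Subgroup.normalizer (H : Set G)) := by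
    by_contra! hall
    exact hbad (Transfer.hasNormalPComplement_iff_forall_normalizer.mpr hall)
  have hcore : Cfsg.pCore p G ≠ ⊥ := by
    let μ : Subgroup G → ℕ := fun H =>
      (Nat.card (Subgroup.normalizer (H : Set G))).factorization p
    obtain ⟨H₁, ⟨hH₁p, hH₁ne, hH₁⟩, hmax⟩ := Set.exists_max_image
      {H : Subgroup G | IsPGroup p H ∧ H ≠ ⊥ ∧
        ¬ Cfsg.HasNormalPComplement p (Subgroup.normalizer (H : Set G))} μ (Set.toFinite _)
      ⟨H₀, hH₀p, hH₀ne, hH₀⟩
    obtain ⟨T, hT1, hT2⟩ := Fusion.exists_sylow_inf_relIndex hH₁p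
      (Subgroup.le_normalizer : H₁ ≤ Subgroup.normalizer (H₁ : Set G))
    obtain ⟨g, hg⟩ := Fusion.exists_cj_sylow T P
    set H := Fusion.cj g H₁
    have hNH : Subgroup.normalizer (H : Set G) =
        Fusion.cj g (Subgroup.normalizer (H₁ : Set G)) := (Fusion.cj_normalizer g H₁).symm
    have hHne : H ≠ ⊥ := fun h => hH₁ne ((Subgroup.map_eq_bot_iff_of_injective _
      (MulAut.conj g).injective).mp h)
    have hHP : H ≤ (P : Subgroup G) := hg ▸ Fusion.cj_mono g hT1
    set N := Subgroup.normalizer (H : Set G) with hN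
    have hNnpc : ¬ Cfsg.HasNormalPComplement p N := by
      intro h
      apply hH₁
      refine (Transfer.hasNormalPComplement_congr
        ((Subgroup.normalizer (H₁ : Set G)).equivMapOfInjective (MulAut.conj g).toMonoidHom
          (MulAut.conj g).injective)).mpr ?_
      change Cfsg.HasNormalPComplement p (Fusion.cj g (Subgroup.normalizer (H₁ : Set G)))
      rwa [← hNH]
    have hPN : ¬ p ∣ ((P : Subgroup G) ⊓ N).relIndex N := by
      rw [hNH, ← hg, ← Fusion.cj_inf,
        Subgroup.relIndex_map_map_of_injective _ _ (MulAut.conj g).injective]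
      exact hT2
    have hμ : Nat.card ((P : Subgroup G) ⊓ N : Subgroup G) = p ^ μ H₁ := by
      have hS : IsPGroup p ((P : Subgroup G) ⊓ N : Subgroup G) := P.2.to_inf_left
      have hμN : Nat.card (Subgroup.normalizer (H₁ : Set G)) = Nat.card N := by
        rw [hNH, Fusion.card_cj]
      have := Sylow.card_eq_multiplicity ((hS.comap_subtype (K := N)).toSylow hPN)
      change Nat.card ↥(((P : Subgroup G) ⊓ N).subgroupOf N) = _ at this
      rw [Nat.card_congr (Subgroup.subgroupOfEquivOfLe inf_le_right).toEquiv] at this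
      simp only [μ]
      rw [hμN]
      exact this
    by_cases hS : (P : Subgroup G) ≤ N
    · by_cases hNtop : N = ⊤
      · intro hbot
        haveI : H.Normal := Subgroup.normalizer_eq_top_iff.mp hNtop
        exact hHne (le_bot_iff.mp (hbot ▸ Cores.le_pCore inferInstance (P.2.to_le hHP)))
      · exact absurd (descend N hNtop hS) hNnpc
    exfalso
    set S := (P : Subgroup G) ⊓ N with hSdef
    have hSlt : S < (P : Subgroup G) :=
      lt_of_le_of_ne inf_le_left fun h => hS (h ▸ inf_le_right)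
    have hgrow := Fusion.lt_normalizer_inf P.2 hSlt
    have hSp : IsPGroup p S := P.2.to_le hSlt.le
    have hPN' : (P : Subgroup G) ⊓ Subgroup.centralizer ((P : Subgroup G) : Set G) ≤ S :=
      le_inf inf_le_left fun z hz =>
        Subgroup.centralizer_le_normalizer _ (Subgroup.centralizer_le hHP hz.2)
    have hDSne : D ⊓ S ≠ ⊥ := by
      have h := Modules.inf_centralizer_ne_bot_of_isPGroup (V := D) (A := (P : Subgroup G))
        (P.2.to_le hD.1) hDne hPD fun a ha => by
          obtain ⟨k, hk⟩ := P.2 ⟨a, ha⟩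
          exact ⟨k, by rw [show a ^ p ^ k = 1 from congrArg Subtype.val hk]; exact one_mem _⟩
      intro hb
      refine h (le_bot_iff.1 (le_trans ?_ hb.le))
      exact fun x hx => ⟨hx.1, hPN' ⟨hD.1 hx.1, hx.2⟩⟩
    have hDSN : (P : Subgroup G) ⊓ Subgroup.normalizer (S : Set G) ≤
        Subgroup.normalizer (F.W (D ⊓ S) : Set G) :=
      (Modules.normalizes_inf (inf_le_left.trans hPD) inf_le_right).trans (F.normalizer_le _)
    have hWnpc : Cfsg.HasNormalPComplement p (Subgroup.normalizer (F.W (D ⊓ S) : Set G)) := by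
      by_contra h
      have hDSp : IsPGroup p ↥(D ⊓ S) := hSp.to_le inf_le_right
      have h1 := hmax (F.W (D ⊓ S)) ⟨hDSp.to_le (F.W_le _), F.W_ne_bot _ hDSp hDSne, h⟩
      obtain ⟨b, hb⟩ := (P.2.to_le (inf_le_left :
        (P : Subgroup G) ⊓ Subgroup.normalizer (S : Set G) ≤ P)).exists_card_eq
      have h2 : μ H₁ < b := by
        rw [← Nat.pow_lt_pow_iff_right hp.one_lt, ← hμ, ← hb]
        exact Fusion.card_lt_card hgrow
      have h3 : b ≤ μ (F.W (D ⊓ S)) := by
        rw [← (hp.pow_dvd_iff_le_factorization Nat.card_pos.ne'), ← hb]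
        exact Subgroup.card_dvd_of_le hDSN
      omega
    have hlt : Nat.card N < Nat.card G := by
      refine lt_of_le_of_ne (Subgroup.card_le_card_group N) fun h => hS ?_
      rw [Subgroup.eq_top_of_card_eq N h]; exact le_top
    let SS : Sylow p N := (hSp.comap_subtype (K := N)).toSylow hPN
    have hsc : Cfsg.IsStronglyClosed (D.subgroupOf N) (SS : Subgroup N) := by
      have h := Fusion.sc_subgroupOf hD N
      rwa [← Subgroup.inf_subgroupOf_right (P : Subgroup G) N] at h
    have hmap : (D.subgroupOf N).map N.subtype = D ⊓ S := by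
      rw [Subgroup.subgroupOf_map_subtype, hSdef, ← inf_assoc, inf_eq_left.2 hD.1]
    have hker : D.subgroupOf N ⊓ N.subtype.ker = ⊥ := by
      rw [Subgroup.ker_subtype, inf_bot_eq]
    refine hNnpc (ih _ hlt SS _ hsc ?_ rfl)
    refine H4.npc_comap_subtype ?_ hWnpc
    refine (Subgroup.le_normalizer_map (H := F.W _) N.subtype).trans ?_
    rw [F.W_map _ _ hker, hmap]
  -- Step 2: `O_{p'}(G) = 1`
  have hprime : Cfsg.pPrimeCore p G = ⊥ := by
    by_contra hM
    set M := Cfsg.pPrimeCore p G with hMdef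
    have hMc : (Nat.card M).Coprime p := Cores.pPrimeCore_coprime
    set π := QuotientGroup.mk' M
    have hπ : Function.Surjective π := QuotientGroup.mk'_surjective M
    have hker : ∀ S : Subgroup G, IsPGroup p S → S ⊓ π.ker = ⊥ := fun S hS => by
      rw [QuotientGroup.ker_mk']; exact PSolv.sylow_inf_eq_bot hMc hS
    have hlt : Nat.card (G ⧸ M) < Nat.card G := by
      have h1 := M.card_mul_index
      rw [Subgroup.index_eq_card] at h1
      have h2 : 1 < Nat.card M := Finite.one_lt_card_iff_nontrivial.mpr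
        ((Subgroup.nontrivial_iff_ne_bot M).mpr hM)
      have h3 : 0 < Nat.card (G ⧸ M) := Nat.card_pos
      nlinarith
    have hsc : Cfsg.IsStronglyClosed (D.map π) ((P.mapSurjective hπ : Sylow p (G ⧸ M)) :
        Subgroup (G ⧸ M)) := by
      rw [Sylow.coe_mapSurjective]; exact Fusion.sc_map hD π hπ
    have hhyp : Cfsg.HasNormalPComplement p
        (Subgroup.normalizer (F.W (D.map π) : Set (G ⧸ M))) := by
      refine H4.npc_of_le ?_ (H4.npc_map π _ hyp)
      intro q hq
      obtain ⟨g, rfl⟩ := hπ q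
      have hDp : IsPGroup p D := P.2.to_le hD.1
      rw [← F.W_map π _ (hker _ hDp)] at hq
      obtain ⟨x, hx, m, hm, rfl⟩ :=
        PSolv.exists_mul_mem_normalizer M hMc (hDp.to_le (F.W_le _)) hq
      refine ⟨m, hm, ?_⟩
      rw [map_mul, (QuotientGroup.eq_one_iff x).mpr hx |> fun h => (show π x = 1 from h), one_mul]
    have hq := ih _ hlt (P.mapSurjective hπ) (D.map π) hsc hhyp rfl
    apply hbad
    obtain ⟨k, hk⟩ := Transfer.exists_index_pResidual_eq_pow (p := p) (G := G ⧸ M)
    refine Transfer.hasNormalPComplement_of_normal ((Cfsg.pResidual p (G ⧸ M)).comap π) ?_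
      (n := k) ?_
    · rw [Cores.card_comap_mk_eq]
      exact hp.not_dvd_mul ((Cores.coprime_iff_not_dvd_prime hp).mp hMc)
        (Transfer.hasNormalPComplement_iff.mp hq)
    · rw [Subgroup.index_comap_of_surjective _ hπ]; exact hk
  -- Step 3: the quotient by `O_p(G)` has a normal p-complement
  set H := Cfsg.pCore p G with hHdef
  have hHp : IsPGroup p H := Cores.pCore_isPGroup
  have hHP : H ≤ (P : Subgroup G) := Cores.pCore_le_sylow P
  have hDH : ¬ D ≤ H := by
    intro h
    refine hnotnormal ⟨fun x hx g => hD.2 x hx g (hHP ?_)⟩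
    exact (inferInstance : H.Normal).conj_mem x (h hx) g
  have hPne : (P : Subgroup G) ≠ H := fun h => hDH (hD.1.trans h.le)
  set π := QuotientGroup.mk' H with hπdef
  have hπ : Function.Surjective π := QuotientGroup.mk'_surjective H
  have hπ1 : ∀ x, π x = 1 ↔ x ∈ H := fun x => QuotientGroup.eq_one_iff x
  have hcomapH : ∀ L : Subgroup (G ⧸ H), H ≤ L.comap π := fun L =>
    QuotientGroup.le_comap_mk' H L
  have hcoreQ : Cfsg.pCore p (G ⧸ H) = ⊥ := Cores.pCore_quotient_pCore_eq_bot
  set PQ := (P : Subgroup G).map π with hPQ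
  have hPQp : IsPGroup p PQ := P.2.map π
  have hPQne : PQ ≠ ⊥ := by
    intro h
    rw [hPQ, Subgroup.map_eq_bot_iff, QuotientGroup.ker_mk'] at h
    exact hPne (le_antisymm h hHP)
  have hlt : Nat.card (G ⧸ H) < Nat.card G := by
    have h1 := H.card_mul_index
    rw [Subgroup.index_eq_card] at h1
    have h2 : 1 < Nat.card H := Finite.one_lt_card_iff_nontrivial.mpr
      ((Subgroup.nontrivial_iff_ne_bot H).mpr hcore)
    have h3 : 0 < Nat.card (G ⧸ H) := Nat.card_pos
    nlinarith
  have hquot : Cfsg.HasNormalPComplement p (G ⧸ H) := by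
    have aux : ∀ (U : Subgroup (G ⧸ H)) (L : Subgroup (G ⧸ H)), U ≠ ⊥ → IsPGroup p U →
        PQ ≤ L → (L = ⊤ → U.Normal) → Cfsg.HasNormalPComplement p L := by
      intro U L hU hUp hPL hnorm
      have hne : L.comap π ≠ ⊤ := by
        intro h
        have hLtop : L = ⊤ := by
          rw [← Subgroup.map_comap_eq_self_of_surjective hπ L, h,
            Subgroup.map_top_of_surjective π hπ]
        exact hU (le_bot_iff.mp (hcoreQ ▸ Cores.le_pCore (hnorm hLtop) hUp))
      have := H4.npc_map π _ (descend _ hne (Subgroup.map_le_iff_le_comap.mp hPL))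
      rwa [Subgroup.map_comap_eq_self_of_surjective hπ L] at this
    have hsc : Cfsg.IsStronglyClosed (D.map π) ((P.mapSurjective hπ : Sylow p (G ⧸ H)) :
        Subgroup (G ⧸ H)) := by
      rw [Sylow.coe_mapSurjective]; exact Fusion.sc_map hD π hπ
    refine ih _ hlt (P.mapSurjective hπ) (D.map π) hsc ?_ rfl
    have hDQ : D.map π ≠ ⊥ := fun h => hDH (by
      rwa [Subgroup.map_eq_bot_iff, QuotientGroup.ker_mk'] at h)
    have hDQp : IsPGroup p ↥(D.map π) := hPQp.to_le (Subgroup.map_mono hD.1)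
    refine aux (F.W (D.map π)) _ (F.W_ne_bot _ hDQp hDQ) (hDQp.to_le (F.W_le _))
      (((Subgroup.map_mono hPD).trans (Subgroup.le_normalizer_map π)).trans (F.normalizer_le _))
      (fun h => Subgroup.normalizer_eq_top_iff.mp h)
  set KQ := Cfsg.pResidual p (G ⧸ H) with hKQ
  have hKQc : ¬ p ∣ Nat.card KQ := Transfer.hasNormalPComplement_iff.mp hquot
  set K := KQ.comap π with hK
  have hKn : K.Normal := inferInstance
  have hHK : H ≤ K := hcomapH KQ
  have hKmap : K.map π = KQ := Subgroup.map_comap_eq_self_of_surjective hπ KQ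
  have hrel : H.relIndex K = Nat.card KQ := by
    have h1 := Cores.card_comap_mk_eq H KQ
    have h2 := Subgroup.relIndex_mul_relIndex (⊥ : Subgroup G) H K bot_le hHK
    rw [Subgroup.relIndex_bot_left, Subgroup.relIndex_bot_left, show Nat.card K = _ from h1] at h2
    exact Nat.eq_of_mul_eq_mul_left Nat.card_pos h2
  have hKsup : K ⊔ (P : Subgroup G) = ⊤ := by
    have h1 := Transfer.pResidual_sup_sylow (P.mapSurjective hπ)
    rw [← hKQ, Sylow.coe_mapSurjective, ← hKmap, ← Subgroup.map_sup] at h1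
    rw [← Subgroup.comap_map_eq_self (f := π) (H := K ⊔ (P : Subgroup G))
      (by rw [QuotientGroup.ker_mk']; exact hHK.trans le_sup_left), h1, Subgroup.comap_top]
  obtain ⟨k, hk⟩ := Transfer.exists_index_pResidual_eq_pow (p := p) (G := G ⧸ H)
  have hKidx : K.index = p ^ k := by
    rw [hK, Subgroup.index_comap_of_surjective _ hπ]; exact hk
  have hKP : K ⊓ (P : Subgroup G) = H := by
    refine le_antisymm (fun x hx => (hπ1 x).mp ?_) (le_inf hHK hHP)
    have : π x ∈ KQ ⊓ PQ := ⟨hx.1, x, hx.2, rfl⟩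
    rwa [PSolv.sylow_inf_eq_bot ((Cores.coprime_iff_not_dvd_prime hp).mpr hKQc) hPQp |>
      fun h => (inf_comm KQ PQ).trans h, Subgroup.mem_bot] at this
  have hKne : K ≠ H := by
    intro h
    apply hPne
    have h1 := hKsup
    rw [h, sup_eq_right.mpr hHP] at h1
    haveI : (P : Subgroup G).Normal := h1 ▸ inferInstance
    exact le_antisymm (Cores.le_pCore inferInstance P.2) hHP
  have hprimeEl : ∀ g : G, (orderOf g).Coprime p → g ∈ K := fun g hg =>
    Cores.mem_pResidual_of_coprime (hg.coprime_dvd_left (orderOf_map_dvd π g))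
  set C := Subgroup.centralizer (H : Set G) with hCdef
  have hCK : C ⊓ K ≤ H := by
    haveI : (C ⊓ K).Normal := inferInstance
    have := PSolv.eq_top_of_central_coprime_index (p := p) (G := ↥(C ⊓ K)) (H.subgroupOf (C ⊓ K))
      (fun z hz => Subgroup.mem_center_iff.mpr fun w => Subtype.ext
        (Subgroup.mem_centralizer_iff.mp w.2.1 z hz).symm)
      hHp.comap_subtype ?_ ?_
    · exact Subgroup.subgroupOf_eq_top.mp this
    · rw [Cores.coprime_iff_not_dvd_prime hp]
      exact fun h => hKQc (hrel ▸ h.trans (PSolv.relIndex_dvd_relIndex_right inf_le_right))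
    · have h1 := Cores.map_subtype_pPrimeCore_le (p := p) (N := C ⊓ K)
      rw [hprime, le_bot_iff, Subgroup.map_eq_bot_iff_of_injective _ (Subgroup.subtype_injective _)]
        at h1
      exact h1
  have hmin : ∀ L : Subgroup G, H ≤ L → L ≤ K →
      (P : Subgroup G) ≤ Subgroup.normalizer (L : Set G) → L = H ∨ L = K := by
    intro L hHL hLK hPL
    by_cases htop : L ⊔ (P : Subgroup G) = ⊤
    · refine Or.inr (le_antisymm hLK fun x hx => ?_)
      have hmem : x ∈ L ⊔ (P : Subgroup G) := htop ▸ Subgroup.mem_top x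
      rw [← SetLike.mem_coe, Subgroup.coe_mul_of_right_le_normalizer_left _ _ hPL] at hmem
      obtain ⟨l, hl, y, hy, rfl⟩ := hmem
      have hyK : y ∈ K := by simpa using mul_mem (inv_mem (hLK (show l ∈ L from hl))) hx
      exact mul_mem hl (hHL (hKP ▸ (⟨hyK, hy⟩ : y ∈ K ⊓ (P : Subgroup G))))
    left
    have hnpc := descend _ htop le_sup_right
    set D := L ⊔ (P : Subgroup G)
    set M := (Cfsg.pResidual p D).map D.subtype
    have hMc : ¬ p ∣ Nat.card M := by
      rw [Subgroup.card_map_of_injective D.subtype_injective]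
      exact Transfer.hasNormalPComplement_iff.mp hnpc
    have hMcop : (Nat.card M).Coprime p := (Cores.coprime_iff_not_dvd_prime hp).mpr hMc
    have hMK : M ≤ K := fun x hx =>
      hprimeEl x (hMcop.coprime_dvd_left (Subgroup.orderOf_dvd_natCard _ hx))
    have hMC : M ≤ C := by
      intro x hx
      rw [hCdef, Subgroup.mem_centralizer_iff]
      intro h hh
      have hhD : h ∈ D := Subgroup.mem_sup_left (hHL hh)
      obtain ⟨x', hx', rfl⟩ := hx
      have h1 : h * x' * h⁻¹ * (x' : G)⁻¹ ∈ M ⊓ H := by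
        refine Subgroup.mem_inf.mpr ⟨mul_mem ⟨⟨h, hhD⟩ * x' * ⟨h, hhD⟩⁻¹,
          (inferInstance : (Cfsg.pResidual p D).Normal).conj_mem _ hx' _, rfl⟩ (inv_mem ⟨x', hx', rfl⟩), ?_⟩
        simp only [mul_assoc]
        refine mul_mem hh ?_
        simpa [mul_assoc] using (inferInstance : H.Normal).conj_mem _ (inv_mem hh) (x' : G)
      rw [inf_comm M H, PSolv.sylow_inf_eq_bot hMcop hHp, Subgroup.mem_bot] at h1
      calc h * (x' : G) = h * (x' : G) * h⁻¹ * (x' : G)⁻¹ * ((x' : G) * h) := by group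
        _ = (x' : G) * h := by rw [h1, one_mul]
    have hMbot : M = ⊥ := by
      rw [eq_bot_iff, ← PSolv.sylow_inf_eq_bot hMcop hHp]
      exact le_inf ((le_inf hMC hMK).trans hCK) le_rfl
    have hD : D = (P : Subgroup G) := by
      have h2 := (Subgroup.map_eq_bot_iff_of_injective _ D.subtype_injective).mp hMbot
      obtain ⟨j, hj⟩ := Transfer.exists_index_pResidual_eq_pow (p := p) (G := D)
      rw [h2, Subgroup.index_bot] at hj
      exact P.3 (IsPGroup.of_card hj) le_sup_right
    exact le_antisymm (hKP ▸ le_inf hLK (le_sup_left.trans hD.le)) hHL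
  -- `K / H` is abelian
  have hKQne : KQ ≠ ⊥ := fun h => hKne (by rw [hK, h, MonoidHom.comap_bot, QuotientGroup.ker_mk'])
  obtain ⟨q, hq, hqd⟩ := Nat.exists_prime_and_dvd
    (show Nat.card KQ ≠ 1 from fun h => hKQne (Subgroup.card_eq_one.mp h))
  haveI := Fact.mk hq
  have hcop : (Nat.card PQ).Coprime (Nat.card KQ) := by
    obtain ⟨j, hj⟩ := hPQp.exists_card_eq
    rw [hj]; exact Nat.Coprime.pow_left j ((hp.coprime_iff_not_dvd).mpr hKQc)
  haveI := hPQp.isNilpotent
  obtain ⟨Q, hQ⟩ := Coprime.exists_invariant_sylow q (A := PQ) (K := KQ)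
    Subgroup.le_normalizer_of_normal hcop (Or.inl inferInstance)
  have hinv : ∀ L : Subgroup (G ⧸ H), L ≤ KQ → PQ ≤ Subgroup.normalizer (L : Set (G ⧸ H)) →
      L = ⊥ ∨ L = KQ := by
    intro L hLK hPL
    rcases hmin (L.comap π) (hcomapH L) (Subgroup.comap_mono hLK)
      ((Subgroup.map_le_iff_le_comap.mp hPL).trans (Subgroup.le_normalizer_comap π)) with h | h
    · left
      rw [← Subgroup.map_comap_eq_self_of_surjective hπ L, h, QuotientGroup.map_mk'_self]
    · right
      rw [← Subgroup.map_comap_eq_self_of_surjective hπ L, h, hKmap]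
  have hKQq : IsPGroup q KQ := by
    rcases hinv _ (Subgroup.map_subtype_le _) hQ with h | h
    · exact absurd ((Subgroup.map_eq_bot_iff_of_injective _ KQ.subtype_injective).mp h)
        (Q.ne_bot_of_dvd_card hqd)
    · have := Q.2.map KQ.subtype
      rwa [h] at this
  have hKQab : ⁅KQ, KQ⁆ = ⊥ := by
    have hle : ⁅KQ, KQ⁆ ≤ KQ := Subgroup.commutator_le_left KQ KQ
    refine (hinv _ hle Subgroup.le_normalizer_of_normal).resolve_right fun h => ?_
    haveI : Nontrivial KQ := (Subgroup.nontrivial_iff_ne_bot KQ).mpr hKQne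
    have h1 := PGroup.commutator_top_lt hKQq (N := (⊤ : Subgroup KQ)) top_ne_bot
    refine h1.ne (Subgroup.map_injective KQ.subtype_injective ?_)
    rw [Subgroup.map_commutator, ← MonoidHom.range_eq_map, Subgroup.range_subtype, h]
  have hcomm : ⁅K, K⁆ ≤ H := by
    intro x hx
    rw [← hπ1]
    have : π x ∈ (⁅K, K⁆).map π := ⟨x, hx, rfl⟩
    rw [Subgroup.map_commutator, hKmap, hKQab] at this
    exact this
  have heq : ∀ C' : Subgroup G, C'.Normal → H ≤ C' → ¬ K ≤ C' → C' = H := by
    intro C' hC' hHC hKC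
    have h1 : C' ⊓ K = H := (hmin (C' ⊓ K) (le_inf hHC hHK) inf_le_right
      Subgroup.le_normalizer_of_normal).resolve_right fun h => hKC (h ▸ inf_le_left)
    have h2 : H.relIndex C' ∣ K.index := by
      rw [← h1, Subgroup.inf_relIndex_left]
      exact Subgroup.relIndex_dvd_index_of_normal K C'
    rw [hKidx] at h2
    obtain ⟨i, -, hi⟩ := (Nat.dvd_prime_pow hp).mp h2
    exact le_antisymm (Cores.le_pCore hC' (H4.isPGroup_of_relIndex hHp hHC hi)) hHC
  have hCH : C ≤ H := by
    by_contra hne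
    have h1 : C ⊔ H ≠ H := fun h => hne (sup_eq_right.mp h)
    have hKC : K ≤ C ⊔ H := by
      by_contra h
      exact h1 (heq _ (Subgroup.sup_normal C H) le_sup_right h)
    refine hKne (le_antisymm (fun x hx => ?_) hHK)
    have hx' := hKC hx
    rw [← SetLike.mem_coe, Subgroup.mul_normal] at hx'
    obtain ⟨a, ha, b, hb, rfl⟩ := hx'
    have haK : a ∈ K := by simpa [mul_assoc] using mul_mem hx (inv_mem (hHK hb))
    exact mul_mem (hCK ⟨ha, haK⟩) hb
  exact key G P D K hD hyp hbad hCH hKn hKsup hcomm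

theorem pairFree_of_abelian_mod_core [Fact p.Prime] (hp : p ≠ 2) {X : Type*} [Group X] [Finite X]
    (P : Sylow p X) {K : Subgroup X} [K.Normal] (hKP : K ⊔ (P : Subgroup X) = ⊤)
    (hK : ⁅K, K⁆ ≤ Cfsg.pCore p X) : Stability.PairFree p X := by
  refine Stability.pairFree_of_twoGroup_comm hp fun T hT => ?_
  haveI : Fact (Nat.Prime 2) := ⟨Nat.prime_two⟩
  have hTK : ∀ x ∈ T, x ∈ K := by
    intro x hx
    obtain ⟨k, hk⟩ := hT ⟨x, hx⟩
    have hk' : x ^ 2 ^ k = 1 := congrArg Subtype.val hk
    obtain ⟨q, hq, s, hs, hxe⟩ := Subgroup.mem_sup_of_normal_left.1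
      (hKP.symm ▸ Subgroup.mem_top x : x ∈ K ⊔ (P : Subgroup X))
    obtain ⟨j, hj⟩ := P.2 ⟨s, hs⟩
    have hj' : s ^ p ^ j = 1 := congrArg Subtype.val hj
    have h1 : (QuotientGroup.mk x : X ⧸ K) ^ 2 ^ k = 1 := by rw [← QuotientGroup.mk_pow, hk']; rfl
    have h2 : (QuotientGroup.mk x : X ⧸ K) ^ p ^ j = 1 := by
      rw [← hxe, QuotientGroup.mk_mul, (QuotientGroup.eq_one_iff q).2 hq, one_mul,
        ← QuotientGroup.mk_pow, hj']
      rfl
    refine (QuotientGroup.eq_one_iff x).1 (orderOf_eq_one_iff.1 (Nat.dvd_one.1 ?_))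
    rw [← Nat.Coprime.gcd_eq_one (Nat.Coprime.pow k j
      ((Nat.coprime_primes Nat.prime_two (Fact.out : p.Prime)).2 (Ne.symm hp)))]
    exact Nat.dvd_gcd (orderOf_dvd_of_pow_eq_one h1) (orderOf_dvd_of_pow_eq_one h2)
  intro x hx y hy
  rw [← commutatorElement_eq_one_iff_mul_comm]
  have hH : ⁅x, y⁆ ∈ Cfsg.pCore p X :=
    hK (Subgroup.commutator_mem_commutator (hTK x hx) (hTK y hy))
  have hT' : ⁅x, y⁆ ∈ T :=
    mul_mem (mul_mem (mul_mem hx hy) (inv_mem hx)) (inv_mem hy)
  have hd := IsPGroup.disjoint_of_ne p 2 hp (Cfsg.pCore p X) T Cores.pCore_isPGroup hT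
  exact (Subgroup.disjoint_def.1 hd) hH hT'

/-- The functor `Ω₁(Z(J_e(S)))`. -/
def omegaCenterThompsonFunctor (p : ℕ) [Fact p.Prime] : H4.PFunctor'.{u} p where
  W S := Cfsg.omegaOne p (Cfsg.centerThompsonOf p S)
  W_le S := (Modules.omegaOne_le p _).trans (Modules.centerThompsonOf_le p S)
  W_map f S h := by
    have hinj := PSolv.comp_subtype_injective f S h
    have h0 := Modules.map_centerThompsonOf (p := p) hinj ⊤
    have h1 := Modules.map_omegaOne (p := p) hinj (Cfsg.centerThompsonOf p (⊤ : Subgroup ↥S))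
    rw [h0, ← Subgroup.map_map, ← Subgroup.map_map, Modules.map_omegaOne S.subtype_injective,
      Modules.map_centerThompsonOf S.subtype_injective,
      ← MonoidHom.range_eq_map, Subgroup.range_subtype] at h1
    exact h1
  W_ne_bot S hS hne := ne_bot_of_le_ne_bot (Modules.omegaOne_center_ne_bot hS hne)
    (Modules.omegaOne_center_le_centerThompson S)

/-- Normal `p`-complement criterion with a `ZJ` functor of a strongly closed subgroup. -/
theorem npc_closed [Fact p.Prime] (hp : p ≠ 2) {G : Type u} [Group G] [Finite G] (P : Sylow p G)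
    (D : Subgroup G) (hD : Cfsg.IsStronglyClosed D (P : Subgroup G))
    (hyp : Cfsg.HasNormalPComplement p (Subgroup.normalizer (F.W D : Set G)))
    (hF : ∀ (X : Type u) [Group X] [Finite X] (Q : Sylow p X) (E : Subgroup X),
      Cfsg.IsStronglyClosed E (Q : Subgroup X) →
      Subgroup.centralizer (Cfsg.pCore p X : Set X) ≤ Cfsg.pCore p X →
      H4.ZJStable p (Q : Subgroup X) → (F.W E).Normal) :
    Cfsg.HasNormalPComplement p G := by
  refine npc_closed_of_reduced P D hD hyp fun X _ _ Q E K hE hE' hbad hc hKn hKP hKK => hbad ?_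
  haveI := hKn
  haveI := hF X Q E hE hc (zjStable_of_isPStableOn
    (fun B _ hB => (pairFree_of_abelian_mod_core hp Q hKP hKK).isPStableOn hp hB) _)
  rwa [Subgroup.normalizer_eq_top (H := F.W E), H4.npc_top_iff] at hE'

end Cfsg.Agent.EvenLocal
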