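import Cfsg.Agent.EvenLocal.FusionControl
import Cfsg.Agent.EvenLocal.ZJStability
import Cfsg.Agent.CharTwo.Constrained
import Cfsg.Agent.H4.ThompsonReduction
import Cfsg.Agent.S3836

/-!
The local factorisation `N(X) = O_{p'}(N(X)) (N(X) ∩ N(W(D ∩ T)))` and the resulting control of
fusion by `N(W(D))`.
-/

set_option autoImplicit false
set_option linter.style.haveILetI false

namespace Cfsg.Agent.EvenLocal

open Subgroup Fusion
open scoped commutatorElement

universe u

variable {p : ℕ} [Fact p.Prime]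

/-- Normalizer `p`-stability gives the hypothesis of the ZJ theorem modulo a normal `p'`-subgroup. -/
theorem zjStable_quotient {L : Type*} [Group L] [Finite L] (K : Subgroup L) [K.Normal]
    (hK : (Nat.card K).Coprime p) (hst : Cfsg.IsNormalizerPStable p L) (T : Sylow p L) :
    H4.ZJStable p ((T : Subgroup L).map (QuotientGroup.mk' K)) := by
  intro B _ hBp ā hā hq
  set π := QuotientGroup.mk' K with hπ
  have hsurj : Function.Surjective π := QuotientGroup.mk'_surjective K
  obtain ⟨a, ha, rfl⟩ := hā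
  set B₁ := B.comap π ⊓ (T : Subgroup L) with hB₁
  have hB₁p : IsPGroup p B₁ := T.2.to_inf_right
  have hBT : B ≤ (T : Subgroup L).map π := by
    have h := Cores.pCore_le_sylow (T.mapSurjective hsurj)
    rw [Sylow.coe_mapSurjective] at h
    exact (Cores.le_pCore inferInstance hBp).trans h
  have hmap : B₁.map π = B := by
    refine le_antisymm ((map_mono inf_le_left).trans (map_comap_le _ _)) fun b hb => ?_
    obtain ⟨t, ht, rfl⟩ := hBT hb
    exact ⟨t, ⟨hb, ht⟩, rfl⟩
  have haB : a ∈ normalizer (B₁ : Set L) :=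
    inf_normalizer_le_normalizer_inf ⟨by rw [normalizer_eq_top (H := B.comap π)]; trivial,
      le_normalizer ha⟩
  have hq₁ : ∀ β ∈ B₁, ⁅⁅β, a⁆, a⁆ = 1 := by
    intro β hβ
    have h1 : ⁅⁅β, a⁆, a⁆ ∈ (T : Subgroup L) := by
      have h2 : ⁅β, a⁆ ∈ (T : Subgroup L) :=
        mul_mem (mul_mem (mul_mem hβ.2 ha) (inv_mem hβ.2)) (inv_mem ha)
      exact mul_mem (mul_mem (mul_mem h2 ha) (inv_mem h2)) (inv_mem ha)
    have h3 : ⁅⁅β, a⁆, a⁆ ∈ K := by
      refine (QuotientGroup.eq_one_iff _).1 ?_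
      show π ⁅⁅β, a⁆, a⁆ = 1
      rw [map_commutatorElement, map_commutatorElement]
      exact hq (π β) hβ.1
    have h4 : ⁅⁅β, a⁆, a⁆ ∈ (T : Subgroup L) ⊓ K := ⟨h1, h3⟩
    rwa [PSolv.sylow_inf_eq_bot hK T.2, mem_bot] at h4
  have hquad : ⁅⁅B₁, zpowers a⁆, zpowers a⁆ = ⊥ := by
    refine commutator_eq_bot_iff_le_centralizer.2 (le_trans
      (Modules.commutator_le_of_closure (S := {a}) (R := B₁ ⊓ centralizer (zpowers a : Set L))
        (zpowers_eq_closure a).le ?_ ?_) inf_le_right)
    · rintro s (rfl : s = a)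
      exact inf_normalizer_le_normalizer_inf ⟨haB,
        Modules.normalizes_centralizer (zpowers_le.2 (le_normalizer (mem_zpowers s)))
          (mem_zpowers s)⟩
    · rintro s (rfl : s = a) v hv
      refine ⟨Modules.commutatorElement_mem haB hv, ?_⟩
      refine mem_centralizer_iff.2 fun w hw => ?_
      obtain ⟨n, rfl⟩ := mem_zpowers_iff.1 hw
      exact ((show Commute ⁅v, s⁆ s from
        commutatorElement_eq_one_iff_mul_comm.1 (hq₁ v hv)).zpow_right n).eq.symm
  have hm := hst B₁ hB₁p a haB hquad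
  set N := normalizer (B₁ : Set L) with hN
  set C := (centralizer (B₁ : Set L)).subgroupOf N with hC
  set M : Subgroup L := ((Cfsg.pCore p (↥N ⧸ C)).comap (QuotientGroup.mk' C)).map N.subtype with hM
  have haM : a ∈ M := ⟨⟨a, haB⟩, hm, rfl⟩
  have hMpow : ∀ g ∈ M, ∃ n : ℕ, g ^ p ^ n ∈ centralizer (B₁ : Set L) := by
    rintro _ ⟨g, hg, rfl⟩
    obtain ⟨n, hn⟩ := Cores.pCore_isPGroup (p := p) (G := ↥N ⧸ C) ⟨_, hg⟩
    have h : QuotientGroup.mk' C g ^ p ^ n = 1 := congrArg Subtype.val hn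
    rw [← map_pow] at h
    exact ⟨n, (QuotientGroup.eq_one_iff (g ^ p ^ n)).1 h⟩
  have hMN : M ≤ N := map_subtype_le _
  have hNM : N ≤ normalizer (M : Set L) := by
    have : ((Cfsg.pCore p (↥N ⧸ C)).comap (QuotientGroup.mk' C)).Normal := inferInstance
    refine le_trans ?_ (le_normalizer_map _)
    rw [normalizer_eq_top (H := (Cfsg.pCore p (↥N ⧸ C)).comap (QuotientGroup.mk' C)),
      ← MonoidHom.range_eq_map, Subgroup.range_subtype]
  refine H4.le_stabCore (M := M.map π) ?_ ?_ ⟨a, haM, rfl⟩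
  · refine normalizer_eq_top_iff.1 (eq_top_iff.2 fun q _ => ?_)
    obtain ⟨g, rfl⟩ := hsurj q
    obtain ⟨x, hx, n, hn, rfl⟩ := PSolv.exists_mul_mem_normalizer K hK hB₁p (g := g) (by
      rw [hmap, normalizer_eq_top (H := B)]; trivial)
    rw [map_mul, (QuotientGroup.eq_one_iff x).mpr hx |> fun h => (show π x = 1 from h), one_mul]
    exact (le_normalizer_map π) ⟨n, hNM hn, rfl⟩
  · rintro _ ⟨g, hg, rfl⟩
    obtain ⟨n, hn⟩ := hMpow g hg
    refine ⟨n, ?_⟩
    rw [← map_pow, ← hmap, coe_map]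
    exact map_centralizer_le_centralizer_image _ π ⟨_, hn, rfl⟩

variable {F : H4.PFunctor'.{u} p}

/-- If `F` gives normal subgroups modulo a normal `p'`-subgroup, then `N` factors. -/
theorem local_factor {L : Type u} [Group L] [Finite L] (K : Subgroup L) [K.Normal]
    (hK : (Nat.card K).Coprime p) {E : Subgroup L} (hE : IsPGroup p E)
    (hn : (F.W (E.map (QuotientGroup.mk' K))).Normal) :
    ∀ g : L, g ∈ K ⊔ normalizer (F.W E : Set L) := by
  intro g
  have hker : E ⊓ (QuotientGroup.mk' K).ker = ⊥ := by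
    rw [QuotientGroup.ker_mk']; exact PSolv.sylow_inf_eq_bot hK hE
  obtain ⟨x, hx, n, hn', rfl⟩ := PSolv.exists_mul_mem_normalizer K hK (hE.to_le (F.W_le E)) (g := g)
    (by rw [F.W_map _ _ hker, normalizer_eq_top (H := F.W (E.map (QuotientGroup.mk' K)))]; trivial)
  exact mul_mem (mem_sup_left hx) (mem_sup_right hn')

/-- A ZJ functor of a strongly closed subgroup controls fusion, given the property of each local
subgroup modulo its largest normal `p'`-subgroup. -/
theorem controls_fusion_functor {G : Type u} [Group G] [Finite G] (P : Sylow p G) (D : Subgroup G)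
    (hD : Cfsg.IsStronglyClosed D (P : Subgroup G)) (Ok : Subgroup G → Prop)
    (hOkH : ∀ H : Subgroup G, H ≤ (P : Subgroup G) →
      (P : Subgroup G) ⊓ centralizer (H : Set G) ≤ H → Ok H)
    (hOkW : ∀ T : Subgroup G, T ≤ (P : Subgroup G) →
      (P : Subgroup G) ⊓ centralizer ((P : Subgroup G) : Set G) ≤ T → Ok (F.W (D ⊓ T)))
    (hOkconj : ∀ (X : Subgroup G) (g : G), Ok X → Ok (cj g X))
    (hloc : ∀ X : Subgroup G, X ≤ (P : Subgroup G) → X ≠ ⊥ → Ok X →
      ∀ (T : Sylow p ↥(normalizer (X : Set G))) (E : Subgroup ↥(normalizer (X : Set G))),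
        Cfsg.IsStronglyClosed E (T : Subgroup ↥(normalizer (X : Set G))) →
        (F.W (E.map (QuotientGroup.mk' (Cfsg.pPrimeCore p ↥(normalizer (X : Set G)))))).Normal) :
    ∀ A : Subgroup G, A ≤ (P : Subgroup G) → ∀ g : G, cj g A ≤ (P : Subgroup G) →
      ActsLike (normalizer (F.W D : Set G)) A g := by
  refine controls_fusion_of_locals P D (fun S => F.W S) Ok hD (fun T => F.W_le T)
    (fun T => F.W_ne_bot T) (fun T => F.normalizer_le T) hOkH hOkW hOkconj ?_
  intro X hXP hX hOk hsyl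
  set N := normalizer (X : Set G) with hN
  set K₀ := Cfsg.pPrimeCore p ↥N with hK₀
  refine ⟨K₀.map N.subtype, map_subtype_le _, ?_, ?_, ?_⟩
  · refine le_trans ?_ (le_normalizer_map (H := K₀) N.subtype)
    rw [normalizer_eq_top (H := K₀), ← MonoidHom.range_eq_map, Subgroup.range_subtype]
  · rw [card_map_of_injective N.subtype_injective]; exact Cores.pPrimeCore_coprime
  · let T : Sylow p ↥N :=
      ((P.2.to_inf_left (K := N)).comap_subtype (K := N)).toSylow hsyl
    have hsc : Cfsg.IsStronglyClosed (D.subgroupOf N) (T : Subgroup ↥N) := by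
      have h := Fusion.sc_subgroupOf hD N
      rwa [← Subgroup.inf_subgroupOf_right (P : Subgroup G) N] at h
    have hker : D.subgroupOf N ⊓ N.subtype.ker = ⊥ := by
      rw [Subgroup.ker_subtype, inf_bot_eq]
    have hmap : (D.subgroupOf N).map N.subtype = D ⊓ ((P : Subgroup G) ⊓ N) := by
      rw [Subgroup.subgroupOf_map_subtype, ← inf_assoc, inf_eq_left.2 hD.1]
    intro g hg
    have hfac := local_factor (F := F) K₀ Cores.pPrimeCore_coprime
      ((P.2.to_le hD.1).comap_subtype (K := N)) (hloc X hXP hX hOk T _ hsc) ⟨g, hg⟩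
    have h2 : g ∈ (K₀ ⊔ normalizer (F.W (D.subgroupOf N) : Set ↥N)).map N.subtype :=
      ⟨_, hfac, rfl⟩
    rw [Subgroup.map_sup] at h2
    refine (sup_le_sup le_rfl (le_inf (map_subtype_le _) ?_)) h2
    refine (le_normalizer_map (H := F.W (D.subgroupOf N)) N.subtype).trans ?_
    rw [F.W_map _ _ hker, hmap]

/-- Control of fusion when the locals are `p`-constrained and `G` is normalizer `p`-stable. -/
theorem controls_fusion_stable {G : Type u} [Group G] [Finite G] (P : Sylow p G) (D : Subgroup G)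
    (hD : Cfsg.IsStronglyClosed D (P : Subgroup G)) (hst : Cfsg.IsNormalizerPStable p G)
    (hc : ∀ U : Subgroup G, U ≤ (P : Subgroup G) → U ≠ ⊥ →
      Cfsg.IsPConstrained p ↥(normalizer (U : Set G)))
    (hF : ∀ (X : Type u) [Group X] [Finite X] (Q : Sylow p X) (E : Subgroup X),
      Cfsg.IsStronglyClosed E (Q : Subgroup X) →
      centralizer (Cfsg.pCore p X : Set X) ≤ Cfsg.pCore p X →
      H4.ZJStable p (Q : Subgroup X) → (F.W E).Normal) :
    ∀ A : Subgroup G, A ≤ (P : Subgroup G) → ∀ g : G, cj g A ≤ (P : Subgroup G) →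
      ActsLike (normalizer (F.W D : Set G)) A g := by
  refine controls_fusion_functor P D hD (fun _ => True) (fun _ _ _ => trivial)
    (fun _ _ _ => trivial) (fun _ _ _ => trivial) fun X hXP hX _ T E hE => ?_
  have hπ := QuotientGroup.mk'_surjective (Cfsg.pPrimeCore p ↥(normalizer (X : Set G)))
  refine hF _ (T.mapSurjective hπ) _
    (by rw [Sylow.coe_mapSurjective]; exact Fusion.sc_map hE _ hπ) ?_ ?_
  · exact PSolv.centralizer_pCore_le_of_isPConstrained
      ((CharTwo.isPConstrained_iff_of_surjective _ hπ CharTwo.mk_ker_coprime).1 (hc X hXP hX))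
      Cores.pPrimeCore_quotient_pPrimeCore_eq_bot
  · rw [Sylow.coe_mapSurjective]
    exact zjStable_quotient _ Cores.pPrimeCore_coprime
      (Cfsg.Agent.S3836.result hst (normalizer (X : Set G))) T

end Cfsg.Agent.EvenLocal
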