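import Cfsg.Agent.EvenLocal.Qd
import Cfsg.Agent.PGroup.Extraspecial

/-!
A Sylow subgroup of `Qd(p)` is the Heisenberg group of order `p ^ 3`.
-/

set_option autoImplicit false
set_option linter.style.haveILetI false

namespace Cfsg.Agent.EvenLocal.Qd

open Matrix

variable {p : ℕ} [hp : Fact p.Prime]

/-- Coordinates on the unitriangular subgroup. -/
def uniCoord (M : uni (ZMod p)) : ZMod p × ZMod p × ZMod p :=
  ((lin (M : Cfsg.qdOver (ZMod p)) : Matrix (Fin 2) (Fin 2) (ZMod p)) 0 1,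
    tr (M : Cfsg.qdOver (ZMod p)) 1, tr (M : Cfsg.qdOver (ZMod p)) 0)

theorem uniCoord_mul (M N : uni (ZMod p)) :
    uniCoord (M * N) = ((uniCoord M).1 + (uniCoord N).1, (uniCoord M).2.1 + (uniCoord N).2.1,
      (uniCoord M).2.2 + (uniCoord N).2.2 + (uniCoord M).1 * (uniCoord N).2.1) := by
  obtain ⟨u1, u2, u3⟩ := mem_uni_iff.1 M.2
  obtain ⟨v1, v2, v3⟩ := mem_uni_iff.1 N.2
  simp only [uniCoord, Subgroup.coe_mul, map_mul, tr_mul, SpecialLinearGroup.coe_mul, Prod.mk.injEq]
  refine ⟨?_, ?_, ?_⟩ <;>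
    simp [Matrix.mul_apply, Matrix.mulVec, dotProduct, Fin.sum_univ_two, u1, u2, u3, v3] <;> ring

theorem uniCoord_injective : Function.Injective (uniCoord (p := p)) := by
  intro M N h
  obtain ⟨u1, u2, u3⟩ := mem_uni_iff.1 M.2
  obtain ⟨v1, v2, v3⟩ := mem_uni_iff.1 N.2
  simp only [uniCoord, Prod.mk.injEq] at h
  obtain ⟨h1, h2, h3⟩ := h
  refine Subtype.ext (ext_lin_tr ?_ ?_)
  · apply Subtype.ext
    ext i j
    fin_cases i <;> fin_cases j <;> simp_all
  · ext i
    fin_cases i <;> simp_all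

theorem uniCoord_surjective : Function.Surjective (uniCoord (p := p)) := fun x =>
  ⟨⟨uniEl x.1 x.2.1 x.2.2, uniEl_mem _ _ _⟩, by simp [uniCoord, uniEl, lin_mkEl, tr_mkEl]⟩

theorem uniCoord_one : uniCoord (1 : uni (ZMod p)) = 0 := by
  simp [uniCoord, tr_one, Prod.ext_iff]

theorem card_uni : Nat.card (uni (ZMod p)) = p ^ 3 := by
  rw [Nat.card_congr (Equiv.ofBijective _ ⟨uniCoord_injective, uniCoord_surjective⟩),
    Nat.card_prod, Nat.card_prod, Nat.card_zmod]
  ring

theorem mem_center_uni_iff (M : uni (ZMod p)) :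
    M ∈ Subgroup.center (uni (ZMod p)) ↔ (uniCoord M).1 = 0 ∧ (uniCoord M).2.1 = 0 := by
  rw [Subgroup.mem_center_iff]
  constructor
  · intro h
    obtain ⟨A, hA⟩ := uniCoord_surjective (p := p) (1, 0, 0)
    obtain ⟨B, hB⟩ := uniCoord_surjective (p := p) (0, 1, 0)
    have h1 := congrArg uniCoord (h A)
    have h2 := congrArg uniCoord (h B)
    simp [uniCoord_mul, hA, hB, Prod.ext_iff] at h1 h2
    exact ⟨h2.2, h1.2⟩
  · rintro ⟨h1, h2⟩ N
    apply uniCoord_injective
    simp [uniCoord_mul, h1, h2, add_comm]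

theorem card_center_uni : Nat.card (Subgroup.center (uni (ZMod p))) = p := by
  refine (Nat.card_congr (Equiv.ofBijective
    (fun M : Subgroup.center (uni (ZMod p)) => (uniCoord (M : uni (ZMod p))).2.2) ⟨?_, ?_⟩)).trans
    (Nat.card_zmod p)
  · intro M N h
    obtain ⟨a, b⟩ := (mem_center_uni_iff _).1 M.2
    obtain ⟨c, d⟩ := (mem_center_uni_iff _).1 N.2
    exact Subtype.ext (uniCoord_injective (Prod.ext (a.trans c.symm) (Prod.ext (b.trans d.symm) h)))
  · intro z
    obtain ⟨M, hM⟩ := uniCoord_surjective (p := p) (0, 0, z)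
    exact ⟨⟨M, (mem_center_uni_iff M).2 (by simp [hM])⟩, by simp [hM]⟩

theorem uniCoord_pow (M : uni (ZMod p)) (k : ℕ) :
    uniCoord (M ^ k) = (k * (uniCoord M).1, k * (uniCoord M).2.1,
      k * (uniCoord M).2.2 + k.choose 2 * ((uniCoord M).1 * (uniCoord M).2.1)) := by
  induction k with
  | zero => simp [uniCoord_one, Prod.ext_iff]
  | succ k ih =>
    rw [pow_succ, uniCoord_mul, ih, Nat.choose_succ_succ k 1, Nat.choose_one_right]
    push_cast
    refine Prod.ext ?_ (Prod.ext ?_ ?_) <;> simp <;> ring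

theorem pow_prime_uni (hp2 : p ≠ 2) (M : uni (ZMod p)) : M ^ p = 1 := by
  apply uniCoord_injective
  have h2 : ((p.choose 2 : ℕ) : ZMod p) = 0 := (ZMod.natCast_eq_zero_iff _ _).2
    (hp.out.dvd_choose_self (by norm_num) (lt_of_le_of_ne hp.out.two_le (Ne.symm hp2)))
  rw [uniCoord_pow, uniCoord_one, h2]
  simp [Prod.ext_iff]

theorem sylow_qd (hp2 : p ≠ 2) (P : Sylow p (Cfsg.qdOver (ZMod p))) :
    Cfsg.IsExtraspecial p P ∧ Nat.card P = p ^ 3 ∧ Monoid.exponent P = p := by
  obtain ⟨S, hS⟩ := (uni_isPGroup (p := p)).exists_le_sylow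
  have hSU := uni_maximal S.2 hS
  let e : ↥(P : Subgroup (Cfsg.qdOver (ZMod p))) ≃* uni (ZMod p) :=
    (P.equiv S).trans (MulEquiv.subgroupCongr hSU)
  have hcard : Nat.card P = p ^ 3 := (Nat.card_congr e.toEquiv).trans card_uni
  have hpow : ∀ x : P, x ^ p = 1 := fun x => e.injective (by rw [map_pow, map_one, pow_prime_uni hp2])
  haveI : Finite (P : Subgroup (Cfsg.qdOver (ZMod p))) := by
    refine Nat.finite_of_card_ne_zero ?_
    rw [hcard]
    exact pow_ne_zero 3 hp.out.ne_zero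
  have hce : ∀ x : P, e x ∈ Subgroup.center (uni (ZMod p)) → x ∈ Subgroup.center P := fun x hx =>
    Subgroup.mem_center_iff.2 fun g =>
      e.injective (by rw [map_mul, map_mul, Subgroup.mem_center_iff.1 hx])
  refine ⟨PGroup.isExtraspecial_of_center P.2 ?_ ?_ ?_ (fun x => by rw [hpow]; exact one_mem _),
    hcard, ?_⟩
  · rw [Nat.card_congr (Subgroup.centerCongr e).toEquiv, card_center_uni]
  · intro h
    obtain ⟨A, hA⟩ := uniCoord_surjective (p := p) (1, 0, 0)
    obtain ⟨B, hB⟩ := uniCoord_surjective (p := p) (0, 1, 0)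
    have := congrArg (fun x => uniCoord (e x)) (h.is_comm.comm (e.symm A) (e.symm B))
    simp [uniCoord_mul, hA, hB] at this
  · rw [commutator_def, Subgroup.commutator_le]
    intro x _ y _
    refine hce _ ((mem_center_uni_iff _).2 ?_)
    have hinv : ∀ M : uni (ZMod p), (uniCoord M⁻¹).1 = -(uniCoord M).1 ∧
        (uniCoord M⁻¹).2.1 = -(uniCoord M).2.1 := fun M => by
      have := uniCoord_mul M⁻¹ M
      rw [inv_mul_cancel, uniCoord_one] at this
      simp [Prod.ext_iff] at this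
      exact ⟨by linear_combination -this.1, by linear_combination -this.2.1⟩
    simp [commutatorElement_def, uniCoord_mul, (hinv _).1, (hinv _).2]
  · refine ((Nat.dvd_prime hp.out).1 (Monoid.exponent_dvd_of_forall_pow_eq_one hpow)).resolve_left
      fun h => ?_
    have := (Monoid.exp_eq_one_iff.1 h)
    haveI : Subsingleton ↥(P : Subgroup (Cfsg.qdOver (ZMod p))) := this
    rw [Nat.card_of_subsingleton (1 : ↥(P : Subgroup (Cfsg.qdOver (ZMod p))))] at hcard
    exact absurd hcard.symm (Nat.one_lt_pow (by norm_num) hp.out.one_lt).ne'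

end Cfsg.Agent.EvenLocal.Qd
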