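import Cfsg.Agent.Stability.Replacement
import Cfsg.Agent.Fusion.Basic
import Cfsg.Agent.Modules.ElemAb

/-!
Glauberman replacement inside an arbitrary `p`-group, with the bound on the rank.
-/

set_option autoImplicit false
set_option linter.style.haveILetI false

namespace Cfsg.Agent.EvenLocal

open Subgroup
open Stability.Repl

variable {G : Type*} [Group G] {A B N : Subgroup G} {b : G}

/-- For odd `p` the generator attached to an element of order `p` has order dividing `p`. -/
theorem replacement_gen_pow (h : Hyp A B N b) (hX : IsMulCommutative ↥(comX A b)) {p : ℕ}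
    [hp : Fact p.Prime] (hp2 : p ≠ 2) {a : G} (ha : a ∈ A) (hap : a ^ p = 1) :
    (b⁻¹ * a * b * a⁻¹) ^ p = 1 := by
  have hcm := Modules.comm_iff.1 (h.star_comm hX)
  set x := b⁻¹ * a * b * a⁻¹ with hx
  set d := x⁻¹ * (a * x * a⁻¹) with hd
  have hdI := h.commutator_mem_inf ha ha
  rw [← hx, ← hd] at hdI
  have hxs : x ∈ star A b := le_sup_right (α := Subgroup G) (mem_comX b ha)
  have hxd : x * d = d * x := hcm x hxs d (le_sup_left (α := Subgroup G) hdI)
  have had : a * d = d * a := h.commMul ha hdI.1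
  have h1 : ∀ n : ℕ, a ^ n * x * (a ^ n)⁻¹ = x * d ^ n := by
    intro n
    induction n with
    | zero => simp
    | succ n ih =>
      calc a ^ (n + 1) * x * (a ^ (n + 1))⁻¹ = a * (a ^ n * x * (a ^ n)⁻¹) * a⁻¹ := by
            rw [pow_succ']; group
        _ = a * x * d ^ n * a⁻¹ := by rw [ih]; group
        _ = x * d * (a * d ^ n * a⁻¹) := by rw [hd]; group
        _ = x * d ^ (n + 1) := by
          rw [(Commute.pow_right had n).eq, mul_inv_cancel_right, mul_assoc, ← pow_succ']
  have h2 : ∀ n : ℕ, b⁻¹ * a ^ n * b * (a ^ n)⁻¹ = x ^ n * d ^ n.choose 2 := by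
    intro n
    induction n with
    | zero => simp
    | succ n ih =>
      calc b⁻¹ * a ^ (n + 1) * b * (a ^ (n + 1))⁻¹
          = b⁻¹ * a ^ n * b * (a ^ n)⁻¹ * (a ^ n * x * (a ^ n)⁻¹) := by
            rw [pow_succ, hx]; group
        _ = x ^ n * d ^ n.choose 2 * (x * d ^ n) := by rw [ih, h1]
        _ = x ^ n * (d ^ n.choose 2 * x) * d ^ n := by group
        _ = x ^ n * (x * d ^ n.choose 2) * d ^ n := by
          rw [((show Commute d x from hxd.symm).pow_left _).eq]
        _ = x ^ (n + 1) * d ^ (n + 1).choose 2 := by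
          rw [Nat.choose_succ_succ', Nat.choose_one_right, add_comm n (n.choose 2), pow_add,
            pow_succ]
          group
  have hdp : d ^ p = 1 := by
    have := h1 p
    rwa [hap, one_mul, inv_one, mul_one, left_eq_mul] at this
  obtain ⟨k, hk⟩ := hp.out.dvd_choose_self (by norm_num : (2 : ℕ) ≠ 0)
    (lt_of_le_of_ne hp.out.two_le (Ne.symm hp2))
  have h3 := h2 p
  rw [hap, mul_one, inv_mul_cancel, inv_one, mul_one, hk, pow_mul, hdp, one_pow, mul_one] at h3
  exact h3.symm

/-- The replacing subgroup has at least the rank of the replaced one. -/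
theorem card_omegaOne_le_star [Finite G] (h : Hyp A B N b)
    (hX : IsMulCommutative ↥(comX A b)) {p : ℕ} [hp : Fact p.Prime] (hp2 : p ≠ 2) :
    Nat.card (Cfsg.omegaOne p A) ≤ Nat.card (Cfsg.omegaOne p (star A b)) := by
  set E := Cfsg.omegaOne p A with hE
  set Es := Cfsg.omegaOne p (star A b) with hEs
  set I := A ⊓ A.map (MulAut.conj (b⁻¹)).toMonoidHom with hI
  have hsc := h.star_comm hX
  have hmemE : ∀ {x : G}, x ∈ E ↔ x ∈ A ∧ x ^ p = 1 := fun {x} =>
    Modules.mem_omegaOne_iff_of_comm h.comm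
  have hmemEs : ∀ {x : G}, x ∈ Es ↔ x ∈ star A b ∧ x ^ p = 1 := fun {x} =>
    Modules.mem_omegaOne_iff_of_comm hsc
  have hIs : I ≤ star A b := le_sup_left
  haveI : (I.subgroupOf (star A b)).Normal := ⟨fun n hn g => by
    haveI := hsc
    rwa [mul_comm' g n, mul_inv_cancel_right]⟩
  let g : E →* ↥(star A b) ⧸ I.subgroupOf (star A b) :=
    MonoidHom.mk' (fun a => QuotientGroup.mk
        ⟨b⁻¹ * (a : G) * b * (a : G)⁻¹,
          le_sup_right (α := Subgroup G) (mem_comX b (hmemE.1 a.2).1)⟩)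
      fun a c => by
        rw [← QuotientGroup.mk_mul, QuotientGroup.eq_iff_div_mem, mem_subgroupOf]
        have hd := h.commutator_mem_inf (hmemE.1 a.2).1 (hmemE.1 c.2).1
        set x := b⁻¹ * (a : G) * b * (a : G)⁻¹ with hx
        set z := b⁻¹ * (c : G) * b * (c : G)⁻¹ with hz
        simp only [Subgroup.coe_div, Subgroup.coe_mul]
        have hsz : x * z ∈ star A b := le_sup_right (α := Subgroup G)
          (mul_mem (mem_comX b (hmemE.1 a.2).1) (mem_comX b (hmemE.1 c.2).1))
        have e : b⁻¹ * ((a : G) * c) * b * ((a : G) * c)⁻¹ / (x * z) =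
            (x * z) * (z⁻¹ * ((a : G) * z * (a : G)⁻¹)) * (x * z)⁻¹ := by
          rw [div_eq_mul_inv, hx, hz]; group
        rw [e, Modules.comm_iff.1 hsc _ hsz _ (hIs hd), mul_inv_cancel_right]
        exact hd
  let f : Es →* ↥(star A b) ⧸ I.subgroupOf (star A b) :=
    (QuotientGroup.mk' _).comp (inclusion fun x hx => (hmemEs.1 hx).1)
  have hle : g.range ≤ f.range := by
    rintro - ⟨a, rfl⟩
    exact ⟨⟨_, hmemEs.2 ⟨le_sup_right (α := Subgroup G) (mem_comX b (hmemE.1 a.2).1),
      replacement_gen_pow h hX hp2 (hmemE.1 a.2).1 (hmemE.1 a.2).2⟩⟩, rfl⟩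
  have hkg : g.ker = I.subgroupOf E := by
    ext a
    rw [MonoidHom.mem_ker, mem_subgroupOf]
    refine (QuotientGroup.eq_one_iff _).trans ?_
    rw [mem_subgroupOf]
    constructor
    · intro hx
      obtain ⟨hxA, hx₁⟩ := Subgroup.mem_inf.1 hx
      refine Subgroup.mem_inf.2 ⟨(hmemE.1 a.2).1, ?_⟩
      have : b⁻¹ * (a : G) * b ∈ A.map (MulAut.conj (b⁻¹)).toMonoidHom :=
        mem_conj_iff.2 (by simpa [mul_assoc] using (hmemE.1 a.2).1)
      have h2 := mul_mem (inv_mem hx₁) this
      rw [show (b⁻¹ * (a : G) * b * (a : G)⁻¹)⁻¹ * (b⁻¹ * (a : G) * b) = (a : G) by group] at h2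
      exact h2
    · intro hx
      obtain ⟨haA, ha₁⟩ := Subgroup.mem_inf.1 hx
      exact Subgroup.mem_inf.2 ⟨mul_mem (h.inf_conj haA ha₁) (inv_mem haA),
        mul_mem (mem_conj_iff.2 (by simpa [mul_assoc] using (hmemE.1 a.2).1)) (inv_mem ha₁)⟩
  have hkf : f.ker = I.subgroupOf Es := by
    ext a
    rw [MonoidHom.mem_ker, mem_subgroupOf]
    exact (QuotientGroup.eq_one_iff _).trans mem_subgroupOf
  have hint : I ⊓ E = I ⊓ Es := by
    ext x
    simp only [Subgroup.mem_inf, hmemE, hmemEs]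
    exact ⟨fun hx => ⟨hx.1, hIs hx.1, hx.2.2⟩, fun hx => ⟨hx.1, hx.1.1, hx.2.2⟩⟩
  have cg := card_eq_card_quotient_mul_card_subgroup g.ker
  have cf := card_eq_card_quotient_mul_card_subgroup f.ker
  have kg : Nat.card g.ker = Nat.card ↥(I ⊓ E) := by
    rw [hkg, ← inf_subgroupOf_right]
    exact Nat.card_congr (subgroupOfEquivOfLe (inf_le_right : I ⊓ E ≤ E)).toEquiv
  have kf : Nat.card f.ker = Nat.card ↥(I ⊓ E) := by
    rw [hkf, ← inf_subgroupOf_right, hint]
    exact Nat.card_congr (subgroupOfEquivOfLe (inf_le_right : I ⊓ Es ≤ Es)).toEquiv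
  rw [Nat.card_congr (QuotientGroup.quotientKerEquivRange g).toEquiv, kg] at cg
  rw [Nat.card_congr (QuotientGroup.quotientKerEquivRange f).toEquiv, kf] at cf
  rw [cg, cf]
  exact Nat.mul_le_mul_right _ (card_le_of_le hle)

/-- The replacement theorem in a `p`-group, for a class two subgroup normalized by `A`. -/
theorem exists_abelian_replacement [Finite G] {p : ℕ} [hp : Fact p.Prime] (hp2 : p ≠ 2)
    (hG : IsPGroup p G) (A B : Subgroup G) (hA : IsMulCommutative A) (hBA : ⁅B, B⁆ ≤ A)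
    (hAB : A ≤ normalizer (B : Set G)) (hBnA : ¬ B ≤ normalizer (A : Set G)) :
    ∃ As : Subgroup G, IsMulCommutative As ∧ Nat.card As = Nat.card A ∧
      A ⊓ B < As ⊓ B ∧ As ≤ normalizer (A : Set G) ∧ As ≤ normalClosure (A : Set G) ∧
      Monoid.exponent As ∣ Monoid.exponent A ∧
      Nat.card (Cfsg.omegaOne p A) ≤ Nat.card (Cfsg.omegaOne p As) := by
  set S := A ⊔ B with hS
  set N := normalizer (A : Set G) ⊓ S with hN
  have hSB : S ≤ normalizer (B : Set G) := sup_le hAB le_normalizer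
  haveI : Group.IsNilpotent S := (hG.to_subgroup S).isNilpotent
  have hlt : N.subgroupOf S < ⊤ := lt_top_iff_ne_top.2 fun h => hBnA
    (le_trans le_sup_right ((subgroupOf_eq_top.1 h).trans inf_le_left))
  obtain ⟨g, hgn, hgN⟩ := SetLike.exists_of_lt
    (Group.normalizerCondition_of_isNilpotent _ hlt)
  have hgN' : (g : G) ∈ normalizer (N : Set G) := by
    rw [mem_normalizer_iff_map_conj_eq]
    refine eq_of_le_of_card_ge ?_ (card_map_of_injective (MulEquiv.injective _)).ge
    rintro - ⟨n, hn, rfl⟩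
    exact (mem_normalizer_iff.1 hgn ⟨n, hn.2⟩).1 hn
  have hg := g.2
  rw [← SetLike.mem_coe, coe_mul_of_left_le_normalizer_right A B hAB] at hg
  obtain ⟨a, ha, b, hb, hab⟩ := hg
  have haN : a ∈ N := ⟨le_normalizer ha, mem_sup_left ha⟩
  have hbN : b ∈ normalizer (N : Set G) := by
    rw [show b = a⁻¹ * g by rw [← hab]; group]
    exact mul_mem (inv_mem (le_normalizer haN)) hgN'
  have h : Hyp A B N b := ⟨hA, hBA, inf_le_right.trans hSB, le_inf le_normalizer le_sup_left,
    inf_le_left, hb, hbN, fun hbA => hgN (mem_subgroupOf.2 (hab ▸ mul_mem haN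
      (⟨hbA, mem_sup_right hb⟩ : b ∈ N)))⟩
  have hX := comX_comm hp2 h (hG.to_subgroup B)
  refine ⟨star A b, h.star_comm hX, h.card_star hX, h.inf_B_lt, h.star_le_N.trans inf_le_left,
    ?_, ?_, card_omegaOne_le_star h hX hp2⟩
  · refine sup_le (inf_le_left.trans le_normalClosure) ((closure_le _).2 ?_)
    rintro g ⟨c, hc, rfl⟩
    refine mul_mem ?_ (inv_mem (le_normalClosure hc))
    simpa using normalClosure_normal.conj_mem c (le_normalClosure hc) b⁻¹
  · refine Monoid.exponent_dvd_of_forall_pow_eq_one fun g => Subtype.ext ?_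
    refine h.pow_star hX ?_ ?_ g g.2
    · obtain ⟨k, hk⟩ := IsPGroup.iff_card.1 (hG.to_subgroup A)
      exact ((hp.out.odd_of_ne_two hp2).pow (n := k)).of_dvd_nat
        (hk ▸ Group.exponent_dvd_nat_card)
    · intro a ha
      exact congrArg Subtype.val (Monoid.pow_exponent_eq_one (⟨a, ha⟩ : A))

end Cfsg.Agent.EvenLocal
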