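import Cfsg.Agent.H4.ZJ
import Cfsg.Agent.EvenLocal.ReplacementRank
import Cfsg.Agent.Fusion.StrongClosure

/-!
Glauberman's ZJ theorem for a strongly closed subgroup, abelian and elementary abelian versions.
-/

set_option autoImplicit false
set_option linter.style.haveILetI false

namespace Cfsg.Agent.EvenLocal

open Subgroup
open scoped commutatorElement Pointwise

variable {G : Type*} [Group G] [Finite G] {p : ℕ} [Fact p.Prime]

omit [Finite G] in
/-- The replacement theorem inside a `p`-subgroup `P`, staying in a subgroup `D` normalized by `P`. -/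
theorem exists_replacement_within [Finite G] (hp2 : p ≠ 2) {P D A B : Subgroup G}
    (hP : IsPGroup p P) (hAP : A ≤ P) (hBP : B ≤ P) (hA : IsMulCommutative A) (hBA : ⁅B, B⁆ ≤ A)
    (hAB : A ≤ normalizer (B : Set G)) (hBnA : ¬ B ≤ normalizer (A : Set G)) (hAD : A ≤ D)
    (hDP : D ≤ P) (hPD : P ≤ normalizer (D : Set G)) :
    ∃ As : Subgroup G, As ≤ D ∧ IsMulCommutative As ∧ Nat.card As = Nat.card A ∧
      A ⊓ B < As ⊓ B ∧ As ≤ normalizer (A : Set G) ∧
      Monoid.exponent As ∣ Monoid.exponent A := by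
  set A' := A.subgroupOf P with hA'
  set B' := B.subgroupOf P with hB'
  have eA : A'.map P.subtype = A := map_subgroupOf_eq_of_le hAP
  have eB : B'.map P.subtype = B := map_subgroupOf_eq_of_le hBP
  have hN : ∀ (X Y : Subgroup P), X ≤ normalizer (Y : Set P) ↔
      X.map P.subtype ≤ normalizer ((Y.map P.subtype : Subgroup G) : Set G) := by
    intro X Y
    constructor
    · exact fun h => (map_mono h).trans (le_normalizer_map _)
    · intro h x hx
      refine mem_normalizer_iff.2 fun y => ?_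
      have := mem_normalizer_iff.1 (h (mem_map_of_mem P.subtype hx)) (y : G)
      constructor
      · intro hy
        obtain ⟨z, hz, hzy⟩ := this.1 (mem_map_of_mem P.subtype hy)
        rwa [show x * y * x⁻¹ = z from Subtype.ext hzy.symm]
      · intro hy
        obtain ⟨z, hz, hzy⟩ := this.2 ⟨_, hy, rfl⟩
        rwa [show y = z from Subtype.ext hzy.symm]
  obtain ⟨As, h1, h2, h3, h4, h5, h6, -⟩ := exists_abelian_replacement hp2 hP A' B'
    (Modules.comm_comap P.subtype P.subtype_injective hA)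
    (by
      refine (map_le_map_iff_of_injective P.subtype_injective).1 ?_
      rw [map_commutator, eA, eB]
      exact hBA)
    ((hN _ _).2 (by rw [eA, eB]; exact hAB))
    (fun h => hBnA (by have := (hN _ _).1 h; rwa [eA, eB] at this))
  refine ⟨As.map P.subtype, ?_, Modules.comm_map P.subtype h1, ?_, ?_, ?_, ?_⟩
  · haveI : (D.subgroupOf P).Normal := normal_subgroupOf_of_le_normalizer hPD
    exact map_le_iff_le_comap.2 (h5.trans
      (normalClosure_le_normal (N := D.subgroupOf P) fun x hx => hAD hx))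
  · rw [card_map_of_injective P.subtype_injective, h2, Nat.card_congr (subgroupOfEquivOfLe hAP).toEquiv]
  · have := (map_lt_map_iff_of_injective P.subtype_injective).2 h3
    rwa [map_inf _ _ _ P.subtype_injective, map_inf _ _ _ P.subtype_injective, eA, eB] at this
  · have := (hN _ _).1 h4
    rwa [eA] at this
  · rw [← Monoid.exponent_eq_of_mulEquiv (As.equivMapOfInjective P.subtype P.subtype_injective),
      ← Monoid.exponent_eq_of_mulEquiv (subgroupOfEquivOfLe hAP)]
    exact h6

/-- A family of abelian subgroups of largest order of some kind inside `D`. -/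
structure ThompsonFamily (D : Subgroup G) (fam : Set (Subgroup G)) (Q : G → Prop) : Prop where
  nonempty : fam.Nonempty
  le : ∀ A ∈ fam, A ≤ D
  comm : ∀ A ∈ fam, IsMulCommutative A
  conj : ∀ A ∈ fam, ∀ g : G, A.map (MulAut.conj g).toMonoidHom ≤ D →
    A.map (MulAut.conj g).toMonoidHom ∈ fam
  repl : ∀ A ∈ fam, ∀ A' : Subgroup G, A' ≤ D → IsMulCommutative A' →
    Nat.card A' = Nat.card A → Monoid.exponent A' ∣ Monoid.exponent A → A' ∈ fam
  cent : ∀ A ∈ fam, ∀ x ∈ D, x ∈ centralizer (A : Set G) → Q x → x ∈ A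
  propZ : ∀ x ∈ sInf fam, Q x
  closed : ∀ B : Subgroup G, (∀ x ∈ B, ∀ y ∈ B, ∀ z ∈ B, Commute ⁅x, y⁆ z) →
    ∀ S : Set G, B = closure S → (∀ s ∈ S, Q s) → ∀ x ∈ B, Q x
  conjQ : ∀ x g : G, Q x → Q (g * x * g⁻¹)

variable {D : Subgroup G} {fam : Set (Subgroup G)} {Q : G → Prop}

omit [Finite G] in
theorem ThompsonFamily.sInf_le_dom (hF : ThompsonFamily D fam Q) : sInf fam ≤ D := by
  obtain ⟨A, hA⟩ := hF.nonempty
  exact (sInf_le hA).trans (hF.le A hA)

omit [Finite G] in
theorem ThompsonFamily.sInf_comm (hF : ThompsonFamily D fam Q) :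
    IsMulCommutative ↥(sInf fam) := by
  obtain ⟨A, hA⟩ := hF.nonempty
  exact Modules.comm_mono (sInf_le hA) (hF.comm A hA)

omit [Finite G] in
theorem ThompsonFamily.normalizer_le (hF : ThompsonFamily D fam Q) {g : G}
    (hg : g ∈ normalizer (D : Set G)) : g ∈ normalizer ((sInf fam : Subgroup G) : Set G) := by
  have key : ∀ g ∈ normalizer (D : Set G), ∀ x ∈ sInf fam, g * x * g⁻¹ ∈ sInf fam := by
    intro g hg x hx
    rw [mem_sInf] at hx ⊢
    intro A hA
    have hm : A.map (MulAut.conj g⁻¹).toMonoidHom ∈ fam := hF.conj A hA g⁻¹ (by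
      rintro - ⟨a, ha, rfl⟩
      exact (mem_normalizer_iff.1 (inv_mem hg) a).1 (hF.le A hA ha))
    obtain ⟨a, ha, hax⟩ := hx _ hm
    rw [← hax]
    simpa [mul_assoc] using ha
  refine mem_normalizer_iff.2 fun x => ⟨key g hg x, fun hx => ?_⟩
  simpa [mul_assoc] using key g⁻¹ (inv_mem hg) _ hx

theorem centerFamily_inf_normal (hp2 : p ≠ 2) (P : Sylow p G)
    (hD : Cfsg.IsStronglyClosed D (P : Subgroup G)) (hF : ThompsonFamily D fam Q)
    (hst : H4.ZJStable p (P : Subgroup G)) :
    ∀ (B : Subgroup G), B.Normal → IsPGroup p B → (sInf fam ⊓ B).Normal := by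
  classical
  intro B
  induction B using WellFoundedLT.induction with
  | ind B ih =>
  intro hBn hBp
  set Z := sInf fam with hZdef
  set W := Z ⊓ B with hWdef
  haveI := hBn
  have hBP : B ≤ (P : Subgroup G) := (PSolv.le_pCore hBn hBp).trans (PSolv.pCore_le_sylow P)
  have hPD : (P : Subgroup G) ≤ normalizer (D : Set G) := le_normalizer_iff.2 fun g hg x hx =>
    hD.2 x hx g (mul_mem (mul_mem hg (hD.1 hx)) (inv_mem hg))
  have hPZ : (P : Subgroup G) ≤ normalizer (Z : Set G) := fun g hg => hF.normalizer_le (hPD hg)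
  have hZP : Z ≤ (P : Subgroup G) := hF.sInf_le_dom.trans hD.1
  rcases eq_or_ne B ⊥ with hBbot | hBbot
  · rw [hWdef, hBbot, inf_bot_eq]; infer_instance
  set B1 := normalClosure (W : Set G) with hB1def
  have hB1le : B1 ≤ B := normalClosure_le_normal (fun x hx => hx.2)
  rcases hB1le.lt_or_eq with hlt | hB1
  · have h := ih B1 hlt inferInstance (hBp.to_le hB1le)
    have heq : Z ⊓ B1 = W := le_antisymm (inf_le_inf_left _ hB1le)
      (le_inf inf_le_left subset_normalClosure)
    rwa [← heq]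
  set F := (frattini B).map B.subtype with hFdef
  have hBnt : Nontrivial B := B.nontrivial_iff_ne_bot.mpr hBbot
  have hFlt : F < B := by
    refine lt_of_le_of_ne (map_subtype_le _) fun he => ?_
    have htop : frattini B = ⊤ := eq_top_iff.mpr fun y _ => by
      obtain ⟨w, hw, hwy⟩ := he.ge y.2
      exact Subtype.ext (a1 := w) (a2 := y) hwy ▸ hw
    have h := frattini_nongenerating (K := (⊥ : Subgroup B)) (by rw [htop, sup_top_eq])
    exact bot_ne_top h
  haveI hFn : F.Normal := PSolv.map_subtype_normal inferInstance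
  set N := Z ⊓ F with hNdef
  haveI hNn : N.Normal := ih F hFlt hFn (hBp.to_le hFlt.le)
  have hgen : ∀ (S : Subgroup G), (∀ w ∈ W, ∀ g : G, g * w * g⁻¹ ∈ S) → B ≤ S := by
    intro S hS
    rw [← hB1, hB1def, normalClosure, closure_le]
    intro x hx
    obtain ⟨w, hw, hc⟩ := Group.mem_conjugatesOfSet_iff.mp hx
    obtain ⟨g, rfl⟩ := isConj_iff.mp hc
    exact hS w hw g
  have hcF : ∀ x ∈ B, ∀ y ∈ B, ⁅x, y⁆ ∈ F := fun x hx y hy =>
    ⟨⁅(⟨x, hx⟩ : B), ⟨y, hy⟩⁆, PGroup.commutatorElement_mem_frattini hBp _ _, rfl⟩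
  have hNB : B ≤ centralizer (N : Set G) := by
    refine hgen _ fun w hw g => mem_centralizer_iff.mpr fun n hn => ?_
    have hn' : g⁻¹ * n * g ∈ N := by simpa using hNn.conj_mem n hn g⁻¹
    have h1 := Modules.comm_iff.1 hF.sInf_comm _ hn'.1 w hw.1
    calc n * (g * w * g⁻¹) = g * (g⁻¹ * n * g * w) * g⁻¹ := by group
      _ = g * (w * (g⁻¹ * n * g)) * g⁻¹ := by rw [h1]
      _ = g * w * g⁻¹ * n := by group
  have hBN : ∀ x ∈ B, ∀ y ∈ B, ⁅x, y⁆ ∈ N := by
    let S : Subgroup G :=
      { carrier := {x | x ∈ B ∧ ∀ y ∈ B, ⁅x, y⁆ ∈ N}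
        one_mem' := ⟨one_mem _, fun y _ => by simp⟩
        mul_mem' := fun {a b} ha hb => ⟨B.mul_mem ha.1 hb.1, fun y hy => by
          rw [Modules.commutatorElement_mul_left]
          exact N.mul_mem (hNn.conj_mem _ (hb.2 y hy) a) (ha.2 y hy)⟩
        inv_mem' := fun {a} ha => ⟨B.inv_mem ha.1, fun y hy => by
          have h1 : ⁅a⁻¹, y⁆ = a⁻¹ * ⁅a, y⁆⁻¹ * a := by simp [commutatorElement_def, mul_assoc]
          rw [h1]
          simpa using hNn.conj_mem _ (N.inv_mem (ha.2 y hy)) a⁻¹⟩ }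
    have hle : B ≤ S := by
      refine hgen S fun w hw g => ⟨hBn.conj_mem w hw.2 g, fun y hy => ?_⟩
      have hy' : g⁻¹ * y * g ∈ B := by simpa using hBn.conj_mem y hy g⁻¹
      have h1 : ⁅g * w * g⁻¹, y⁆ = g * ⁅w, g⁻¹ * y * g⁆ * g⁻¹ := by
        simp [commutatorElement_def, mul_assoc]
      rw [h1]
      refine hNn.conj_mem _ ⟨?_, hcF w hw.2 _ hy'⟩ g
      have h2 := (mem_normalizer_iff.mp (hPZ (hBP hy')) w⁻¹).mp (inv_mem hw.1)
      simpa [commutatorElement_def, mul_assoc] using Z.mul_mem hw.1 h2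
    exact fun x hx y hy => (hle hx).2 y hy
  have hQB : ∀ x ∈ B, Q x := by
    refine hF.closed B (fun x hx y hy z hz => ?_) {x | ∃ w ∈ W, ∃ g : G, g * w * g⁻¹ = x} ?_ ?_
    · exact mem_centralizer_iff.mp (hNB hz) _ (hBN x hx y hy)
    · refine le_antisymm (hgen _ fun w hw g => subset_closure ⟨w, hw, g, rfl⟩) ((closure_le _).2 ?_)
      rintro - ⟨w, hw, g, rfl⟩
      exact hBn.conj_mem w hw.2 g
    · rintro - ⟨w, hw, g, rfl⟩
      exact hF.conjQ w g (hF.propZ w hw.1)
  set L := H4.stabCore p B with hLdef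
  haveI hLn : L.Normal := H4.stabCore_normal B
  have hBL : B ≤ L := H4.le_stabCore hBn fun g hg => by
    obtain ⟨j, hj⟩ := hBp ⟨g, hg⟩
    exact ⟨j, by rw [show g ^ p ^ j = 1 from congrArg Subtype.val hj]; exact one_mem _⟩
  set PL := (P : Subgroup G) ⊓ L with hPL
  have hCW : centralizer (B : Set G) ≤ centralizer (W : Set G) := centralizer_le inf_le_right
  have hfr : centralizer (B : Set G) ⊔ normalizer (PL : Set G) = ⊤ := by
    let T : Sylow p L := (P.2.comap_subtype (K := L)).toSylow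
      (show ¬ p ∣ ((P : Subgroup G).subgroupOf L).index from fun hd =>
        Sylow.not_dvd_index P (hd.trans (PSolv.relIndex_dvd_index_of_normal_right (P : Subgroup G) L)))
    have hcomap : centralizer (B : Set G) ⊔ PL ≥ L := by
      have hle : ((centralizer (B : Set G) ⊔ PL).subgroupOf L) = ⊤ := by
        refine Transfer.eq_top_of_sylow_le T (fun x hx => ?_) fun g hg => ?_
        · exact mem_sup_right (show (x : G) ∈ PL from ⟨hx, x.2⟩)
        · refine mem_sup_left ?_
          obtain ⟨n, hn⟩ := H4.exists_pow_mem_centralizer (p := p) g.2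
          have hcop : Nat.Coprime (p ^ n) (orderOf (g : G)) := by
            rw [orderOf_coe]
            exact (Nat.Coprime.pow_right n hg).symm
          obtain ⟨m, hm⟩ := exists_pow_eq_self_of_coprime hcop
          show (g : G) ∈ centralizer (B : Set G)
          rw [← hm]
          exact pow_mem hn m
      exact fun x hx => subgroupOf_eq_top.mp hle hx
    have htop := T.normalizer_sup_eq_top
    have hT : (T : Subgroup L).map L.subtype = PL := subgroupOf_map_subtype _ _
    rw [hT] at htop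
    rw [eq_top_iff, ← htop]
    refine sup_le le_sup_right (hcomap.trans (sup_le le_sup_left ?_))
    exact le_normalizer.trans le_sup_right
  -- elements normalizing `P ⊓ L` permute the members inside `L`
  have hperm : ∀ g ∈ normalizer (PL : Set G), ∀ A ∈ fam, A ≤ L →
      A.map (MulAut.conj g).toMonoidHom ∈ fam ∧ A.map (MulAut.conj g).toMonoidHom ≤ L := by
    intro g hg A hA hAL
    have hle : A.map (MulAut.conj g).toMonoidHom ≤ L := by
      rintro - ⟨a, ha, rfl⟩
      exact hLn.conj_mem a (hAL ha) g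
    refine ⟨hF.conj A hA g ?_, hle⟩
    rintro - ⟨a, ha, rfl⟩
    exact hD.2 a (hF.le A hA ha) g
      ((mem_normalizer_iff.1 hg a).1 ⟨hD.1 (hF.le A hA ha), hAL ha⟩).1
  by_cases hall : ∀ A ∈ fam, A ≤ L
  · have hNW : ∀ g ∈ normalizer (PL : Set G), ∀ x ∈ W, g * x * g⁻¹ ∈ W := by
      intro g hg x hx
      refine ⟨mem_sInf.2 fun A hA => ?_, hBn.conj_mem x hx.2 g⟩
      obtain ⟨a, ha, hax⟩ := mem_sInf.1 hx.1 _ (hperm g⁻¹ (inv_mem hg) A hA (hall A hA)).1
      rw [← hax]
      simpa [mul_assoc] using ha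
    rw [← normalizer_eq_top_iff, eq_top_iff, ← hfr]
    exact sup_le (hCW.trans (centralizer_le_normalizer _)) (le_normalizer_iff.2 hNW)
  exfalso
  obtain ⟨A, ⟨hA, hAL⟩, hAmax⟩ := Set.exists_max_image
    {A | A ∈ fam ∧ ¬ A ≤ L} (fun A => Nat.card (A ⊓ B : Subgroup G)) (Set.toFinite _) (by
      push Not at hall
      obtain ⟨A, h1, h2⟩ := hall
      exact ⟨A, h1, h2⟩)
  have hAP : A ≤ (P : Subgroup G) := (hF.le A hA).trans hD.1
  by_cases hBA : B ≤ normalizer (A : Set G)
  · refine hAL fun a ha => hst B hBp a (hAP ha) fun β hβ => ?_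
    have h1 : ⁅β, a⁆ ∈ A := by
      simpa [commutatorElement_def, mul_assoc] using
        A.mul_mem ((mem_normalizer_iff.mp (hBA hβ) a).mp ha) (A.inv_mem ha)
    exact commutatorElement_eq_one_iff_mul_comm.mpr (Modules.comm_iff.mp (hF.comm A hA) _ h1 a ha)
  have hBBA : ⁅B, B⁆ ≤ A := commutator_le.2 fun x hx y hy =>
    (sInf_le hA : Z ≤ A) (hBN x hx y hy).1
  obtain ⟨A', hA'D, hA'c, hA'card, hlt, hA'N, hA'e⟩ := exists_replacement_within hp2 P.2 hAP hBP
    (hF.comm A hA) hBBA (by rw [normalizer_eq_top (H := B)]; exact le_top) hBA (hF.le A hA) hD.1 hPD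
  have hA' := hF.repl A hA A' hA'D hA'c hA'card hA'e
  have hA'L : A' ≤ L := by
    by_contra h
    exact absurd (hAmax A' ⟨hA', h⟩) (not_le.mpr (Set.ncard_lt_ncard hlt (Set.toFinite _)))
  -- `B` lies in `D` and centralizes every member inside `L`
  have hBgen : ∀ (X : Subgroup G), (∀ w ∈ W, ∀ n ∈ normalizer (PL : Set G), n * w * n⁻¹ ∈ X) →
      B ≤ X := by
    intro X hX
    refine hgen _ fun w hw g => ?_
    obtain ⟨c, hc, n, hn, rfl⟩ : g ∈ ((centralizer (B : Set G) : Subgroup G) : Set G) *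
        ((normalizer (PL : Set G) : Subgroup G) : Set G) := by
      rw [← coe_mul_of_right_le_normalizer_left _ _ le_normalizer_of_normal, hfr]
      exact mem_top g
    have h1 : n * w * n⁻¹ ∈ B := hBn.conj_mem w hw.2 n
    have h2 : c * n * w * (c * n)⁻¹ = n * w * n⁻¹ := by
      calc c * n * w * (c * n)⁻¹ = c * (n * w * n⁻¹) * c⁻¹ := by group
        _ = _ := by rw [← mem_centralizer_iff.mp hc _ h1, mul_inv_cancel_right]
    rw [h2]
    exact hX w hw n hn
  have hBD : B ≤ D := hBgen D fun w hw n hn => hD.2 w (hF.sInf_le_dom hw.1) n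
    ((mem_normalizer_iff.1 hn w).1 ⟨hZP hw.1, hBL hw.2⟩).1
  have hBC : B ≤ centralizer (A' : Set G) := by
    refine hBgen _ fun w hw n hn => mem_centralizer_iff.2 fun a ha => ?_
    have hm := (hperm n⁻¹ (inv_mem hn) A' hA' hA'L).1
    have h1 := mem_centralizer_iff.1 ((sInf_le hm).trans (Modules.comm_le_centralizer (hF.comm _ hm))
      hw.1) (n⁻¹ * a * n) ⟨a, ha, by simp⟩
    calc a * (n * w * n⁻¹) = n * (n⁻¹ * a * n * w) * n⁻¹ := by group
      _ = n * (w * (n⁻¹ * a * n)) * n⁻¹ := by rw [h1]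
      _ = n * w * n⁻¹ * a := by group
  exact hBA fun b hb => hA'N (hF.cent A' hA' b (hBD hb) (hBC hb) (hQB b hb))

/-- **Glauberman's ZJ theorem** for a Thompson family in a strongly closed subgroup. -/
theorem centerFamily_normal (hp2 : p ≠ 2) (P : Sylow p G)
    (hD : Cfsg.IsStronglyClosed D (P : Subgroup G)) (hF : ThompsonFamily D fam Q)
    (hc : centralizer (Cfsg.pCore p G : Set G) ≤ Cfsg.pCore p G)
    (hst : H4.ZJStable p (P : Subgroup G)) : (sInf fam).Normal := by
  set Z := sInf fam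
  set H := Cfsg.pCore p G with hH
  have hHn : H.Normal := inferInstance
  have hHp : IsPGroup p H := Cores.pCore_isPGroup
  have hDle : H4.stabCore p H ≤ H := by
    refine Cores.le_pCore (H4.stabCore_normal H) fun g => ?_
    obtain ⟨n, hn⟩ := H4.exists_pow_mem_centralizer (p := p) g.2
    obtain ⟨m, hm⟩ := hHp ⟨_, hc hn⟩
    refine ⟨n + m, Subtype.ext ?_⟩
    rw [SubgroupClass.coe_pow, pow_add, pow_mul]
    exact congrArg Subtype.val hm
  have hPD : (P : Subgroup G) ≤ normalizer (D : Set G) := le_normalizer_iff.2 fun g hg x hx =>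
    hD.2 x hx g (mul_mem (mul_mem hg (hD.1 hx)) (inv_mem hg))
  have hZH : Z ≤ H := by
    intro z hz
    refine hDle (hst H hHp z (hD.1 (hF.sInf_le_dom hz)) fun β hβ => ?_)
    have h1 : ⁅β, z⁆ ∈ Z :=
      Z.mul_mem ((mem_normalizer_iff.mp (hF.normalizer_le
        (hPD (Cores.pCore_le_sylow P hβ))) z).mp hz) (Z.inv_mem hz)
    exact commutatorElement_eq_one_iff_mul_comm.mpr (Modules.comm_iff.mp hF.sInf_comm _ h1 z hz)
  have h := centerFamily_inf_normal hp2 P hD hF hst H hHn hHp
  rwa [inf_eq_left.mpr hZH] at h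

/-- The abelian subgroups of largest order form a Thompson family. -/
theorem thompsonFamily_ab (D : Subgroup G) :
    ThompsonFamily D (Modules.maxAbIn D) fun _ => True where
  nonempty := Modules.maxAbIn_nonempty D
  le := fun A hA => hA.1
  comm := fun A hA => hA.2.1
  conj := fun A hA g hle => ⟨hle, Modules.comm_map _ hA.2.1, fun E hE hEc => by
    rw [card_map_of_injective (MulAut.conj g).injective]; exact hA.2.2 E hE hEc⟩
  repl := fun A hA A' hle hc hcard _ => ⟨hle, hc, fun E hE hEc => hcard ▸ hA.2.2 E hE hEc⟩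
  cent := fun A hA x hx hxc _ => Modules.mem_maxAbIn_of_centralizing hA hx hxc
  propZ := fun _ _ => trivial
  closed := fun _ _ _ _ _ _ _ => trivial
  conjQ := fun _ _ _ => trivial

/-- The elementary abelian subgroups of largest order form a Thompson family for odd `p`. -/
theorem thompsonFamily_elemAb (hp2 : p ≠ 2) (D : Subgroup G) :
    ThompsonFamily D (Modules.maxElemAbIn p D) fun x => x ^ p = 1 where
  nonempty := Modules.maxElemAbIn_nonempty p D
  le := fun A hA => hA.1
  comm := fun A hA => hA.2.1.1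
  conj := fun A hA g hle => ⟨hle, Modules.elemAb_map _ hA.2.1, fun E hE hEc => by
    rw [card_map_of_injective (MulAut.conj g).injective]; exact hA.2.2 E hE hEc⟩
  repl := fun A hA A' hle hc hcard he => ⟨hle, ⟨hc, fun a ha => by
    have h1 : Monoid.exponent A ∣ p := Monoid.exponent_dvd_of_forall_pow_eq_one fun g =>
      Subtype.ext (hA.2.1.2 g g.2)
    exact congrArg Subtype.val ((Monoid.exponent_dvd_iff_forall_pow_eq_one).1 (he.trans h1) ⟨a, ha⟩)⟩,
    fun E hE hEc => hcard ▸ hA.2.2 E hE hEc⟩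
  cent := fun A hA x hx hxc hxp => Modules.mem_maxElemAbIn_of_centralizing hA hx hxc hxp
  propZ := fun x hx => by
    obtain ⟨A, hA⟩ := Modules.maxElemAbIn_nonempty p D
    exact hA.2.1.2 x (mem_sInf.1 hx A hA)
  closed := fun B hBB S hB hS => by
    have hcomp : ∀ x ∈ B, ∀ y ∈ B, y ^ p = 1 → ⁅x, y⁆ ^ p = 1 := by
      intro x hx y hy hyp
      have h1 : Commute ⁅x, y⁆ y := hBB x hx y hy y hy
      have h2 : x * y * x⁻¹ = ⁅x, y⁆ * y := by simp [commutatorElement_def, mul_assoc]
      have h3 := congrArg (· ^ p) h2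
      simp only [conj_pow, h1.mul_pow, hyp, mul_one, mul_inv_cancel] at h3
      exact h3.symm
    let Ω : Subgroup G :=
      { carrier := {x | x ∈ B ∧ x ^ p = 1}
        one_mem' := ⟨one_mem _, one_pow p⟩
        mul_mem' := fun {x y} hx hy => ⟨B.mul_mem hx.1 hy.1,
          H4.mul_pow_prime_eq_one hp2 hx.2 hy.2 (hBB y hy.1 x hx.1 x hx.1)
            (hBB y hy.1 x hx.1 y hy.1) (hcomp y hy.1 x hx.1 hx.2)⟩
        inv_mem' := fun {x} hx => ⟨B.inv_mem hx.1, by rw [inv_pow, hx.2, inv_one]⟩ }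
    intro x hx
    have hle : B ≤ Ω := hB.le.trans ((closure_le _).2 fun s hs =>
      ⟨hB.ge (subset_closure hs), hS s hs⟩)
    exact (hle hx).2
  conjQ := fun x g hx => by rw [conj_pow, hx, mul_one, mul_inv_cancel]

theorem centerThompsonAOf_eq_sInf (D : Subgroup G) :
    Cfsg.centerThompsonAOf D = sInf (Modules.maxAbIn D) :=
  (Modules.centerThompsonAOf_eq_centralizer D).trans (Modules.sInf_maxAbIn_eq D).symm

/-- **ZJ theorem**, abelian Thompson subgroup of a strongly closed subgroup. -/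
theorem centerThompsonAOf_normal (hp2 : p ≠ 2) (P : Sylow p G)
    (hD : Cfsg.IsStronglyClosed D (P : Subgroup G))
    (hc : centralizer (Cfsg.pCore p G : Set G) ≤ Cfsg.pCore p G)
    (hst : H4.ZJStable p (P : Subgroup G)) : (Cfsg.centerThompsonAOf D).Normal :=
  centerThompsonAOf_eq_sInf D ▸ centerFamily_normal hp2 P hD (thompsonFamily_ab D) hc hst

/-- **ZJ theorem**, elementary abelian Thompson subgroup of a strongly closed subgroup. -/
theorem omegaOne_centerThompsonOf_normal (hp2 : p ≠ 2) (P : Sylow p G)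
    (hD : Cfsg.IsStronglyClosed D (P : Subgroup G))
    (hc : centralizer (Cfsg.pCore p G : Set G) ≤ Cfsg.pCore p G)
    (hst : H4.ZJStable p (P : Subgroup G)) :
    (Cfsg.omegaOne p (Cfsg.centerThompsonOf p D)).Normal :=
  (Modules.omegaOne_centerThompsonOf_eq D).symm ▸
    centerFamily_normal hp2 P hD (thompsonFamily_elemAb hp2 D) hc hst

end Cfsg.Agent.EvenLocal
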